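import Cfsg.Agent.Lib.Perm.Trans.ThreeDim.Nine.Two.Centres
import Cfsg.Agent.Lib.Perm.Trans.ThreeDim.Nine.SUClause
import Cfsg.Agent.Lib.Invol.ZStar

/-!
# Maximality over the field with four elements
-/

set_option autoImplicit false
set_option linter.all false

namespace CfsgLib.Perm.Trans.ThreeDim.Nine.Two

open scoped Matrix
open Matrix Cfsg Cfsg.Geo CfsgLib.Perm.Trans CfsgLib.Perm.Trans.Unit CfsgLib.Perm.Trans.ThreeDim.Heis

variable {F : Type*} [Field F] [Fintype F] [CharP F 2] (ω : Root F)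

/-- the transposition of two coordinates -/
def wit : GL I9 F where
  val := (1 : Matrix I9 I9 F).submatrix (Equiv.swap (0, 0) (1, 0)) id
  inv := (1 : Matrix I9 I9 F).submatrix (Equiv.swap (0, 0) (1, 0)) id
  val_inv := by
    ext r s
    simp only [Matrix.mul_apply, Matrix.submatrix_apply, id_eq, Matrix.one_apply, ite_mul, one_mul, zero_mul,
      Finset.sum_ite_eq, Finset.mem_univ, if_true, Equiv.swap_apply_self]
  inv_val := by
    ext r s
    simp only [Matrix.mul_apply, Matrix.submatrix_apply, id_eq, Matrix.one_apply, ite_mul, one_mul, zero_mul,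
      Finset.sum_ite_eq, Finset.mem_univ, if_true, Equiv.swap_apply_self]

theorem wit_mem : (wit : GL I9 F) ∈ isoU (f9 (F := F) 2) ⊓ specialLinear I9 F := by
  refine ⟨mem_iso_iff.2 ?_, mem_SL.2 ?_⟩
  · ext r s
    show (1 : Matrix I9 I9 F).submatrix (Equiv.swap (0, 0) (1, 0)) id r s =
      (1 : Matrix I9 I9 F).submatrix (Equiv.swap (0, 0) (1, 0)) id s r ^ 2
    simp only [Matrix.submatrix_apply, id_eq, Matrix.one_apply]
    by_cases h : Equiv.swap ((0, 0) : I9) (1, 0) r = s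
    · rw [if_pos h, if_pos (by rw [← h, Equiv.swap_apply_self]), one_pow]
    · rw [if_neg h, if_neg (fun e => h (by rw [← e, Equiv.swap_apply_self])), zero_pow two_ne_zero]
  · show ((1 : Matrix I9 I9 F).submatrix (Equiv.swap (0, 0) (1, 0)) id).det = 1
    rw [Matrix.det_permute, Equiv.Perm.sign_swap (by decide), Matrix.det_one]
    simp [CharTwo.neg_eq]

theorem wit_not_mem : (wit : GL I9 F) ∉ Subgroup.normalizer (R9 ω : Set (GL I9 F)) := by
  intro h
  obtain ⟨x, hx⟩ : ∃ x, x = wit * l1 (gD ω) * (wit : GL I9 F)⁻¹ := ⟨_, rfl⟩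
  have hxR : x ∈ R9 ω := hx ▸ (Subgroup.mem_normalizer_iff.1 h _).1 (l1_mem_R9 ω (gD_mem ω))
  have hc := R9_comm ω hxR (r1_mem_R9 ω (gS_mem ω))
  obtain ⟨c, hcd⟩ : ∃ c, c = x * r1 gS * x⁻¹ * (r1 gS)⁻¹ := ⟨_, rfl⟩
  rw [← hcd] at hc
  have e : x * r1 gS = c * (r1 gS * x) := by rw [hcd]; group
  obtain ⟨d, hd⟩ : ∃ d : I9 → F, d = fun k => ![1, ω.μ, ω.μ * ω.μ] k.1 := ⟨_, rfl⟩
  have hxv : (x : Matrix I9 I9 F) = Matrix.diagonal (d ∘ Equiv.swap (0, 0) (1, 0)) := by
    have hl : (l1 (gD ω) : GL I9 F).val = Matrix.diagonal d := by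
      ext ⟨x, i⟩ ⟨y, j⟩
      rw [l1_apply, val_gD, dm, hd, Matrix.diagonal_apply, Matrix.diagonal_apply]
      by_cases h1 : x = y <;> by_cases h2 : i = j <;> simp [h1, h2]
    rw [hx, Units.val_mul, Units.val_mul, hl]
    show (1 : Matrix I9 I9 F).submatrix (Equiv.swap (0, 0) (1, 0)) id * Matrix.diagonal d *
      (1 : Matrix I9 I9 F).submatrix (Equiv.swap (0, 0) (1, 0)) id = _
    ext r s
    rw [Matrix.mul_apply, Finset.sum_eq_single (Equiv.swap ((0, 0) : I9) (1, 0) r)]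
    · simp [Matrix.mul_diagonal, Matrix.one_apply, Matrix.diagonal_apply]
    · intro k _ hk
      simp [Matrix.mul_diagonal, Matrix.one_apply, Ne.symm hk]
    · simp
  have hcv := scalar_of_mem_center9 ω hc
  have e' := congrArg Units.val e
  rw [Units.val_mul, Units.val_mul, Units.val_mul, hcv, hxv, Matrix.smul_mul, one_mul] at e'
  have e1 := congrFun (congrFun e' (0, 1)) (0, 0)
  have e2 := congrFun (congrFun e' (0, 2)) (0, 1)
  rw [Matrix.diagonal_mul, Matrix.smul_apply, Matrix.mul_diagonal, r1_apply, val_gS] at e1 e2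
  simp [hd, sm, Equiv.swap_apply_def, Prod.ext_iff] at e1 e2
  exact ω.ne_one (by rw [← e2, one_mul] at e1; exact e1.symm)

/-- the frame case for `p = 2` -/
theorem su9_frame_two (hcard : Fintype.card F = 4) :
    IsMaximalIn (isoU (f9 (F := F) 2) ⊓ specialLinear I9 F)
      (Subgroup.normalizer (R9 ω : Set (GL I9 F)) ⊓ (isoU (f9 (F := F) 2) ⊓ specialLinear I9 F)) := by
  classical
  refine ⟨lt_of_le_of_ne inf_le_right fun e => wit_not_mem ω ((e.symm ▸ wit_mem) :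
    (wit : GL I9 F) ∈ Subgroup.normalizer (R9 ω : Set (GL I9 F)) ⊓ (isoU (f9 (F := F) 2) ⊓ specialLinear I9 F)).1,
    fun M hHM hMG => ?_⟩
  have hN : ∀ n ∈ Subgroup.normalizer (R9 ω : Set (GL I9 F)), n ∈ isoU (f9 (F := F) 2) ⊓ specialLinear I9 F → n ∈ M :=
    fun n h1 h2 => hHM ⟨h1, h2⟩
  have hgood : ∀ n, Good ω n → n ∈ M := fun n h => hN n h.1 h.2.1
  rcases isolated_or_mem ω hcard hMG hgood with hiso | hX
  swap
  · exact Or.inr (le_antisymm hMG (eq_top_of_mem ω hcard hMG hN hX))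
  refine Or.inl (le_antisymm (le_inf ?_ hMG) hHM)
  haveI : Fact (Nat.Prime 2) := ⟨Nat.prime_two⟩
  obtain ⟨z, hz⟩ : ∃ z : M, z = ⟨t0, hgood _ (good_t0 ω)⟩ := ⟨_, rfl⟩
  have hzo : orderOf z = 2 := by
    rw [← Subgroup.orderOf_coe, hz]
    refine orderOf_eq_prime (by rw [sq]; exact t0_sq) fun e => ?_
    have := uX_injective (X := (1 : Matrix (Fin 4) (Fin 4) F)) (Y := 0) (by rw [uX_zero]; exact e)
    exact one_ne_zero this
  have hzc := CfsgLib.Invol.zstar (z := z) ⟨hzo, fun g hg => Subtype.ext (by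
    have h := congrArg (fun u : M => (u : GL I9 F)) hg.eq
    simp only [Subgroup.coe_mul, Subgroup.coe_inv, hz] at h ⊢
    exact hiso g g.2 h.symm)⟩
  obtain ⟨O, hO⟩ : ∃ O, O = Cfsg.pPrimeCore 2 M := ⟨_, rfl⟩
  haveI hOn : O.Normal := hO ▸ inferInstance
  haveI : Group.IsSolvable O := CfsgLib.FT.isSolvable_of_odd O (Nat.odd_iff.2 (by
    have := CfsgLib.Coprime.pPrimeCore_not_dvd (G := M) Nat.prime_two
    rw [← hO] at this; omega))
  obtain ⟨hR, hP, hswG, -⟩ := su_hgen (p := 2) ω rfl (by simp [CharTwo.neg_eq])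
  have hr1 : ∀ a ∈ gR ω, (r1 a : GL I9 F) ∈ M := fun a ha => hN _ (Subgroup.le_normalizer (r1_mem_R9 ω ha)) (hR a ha)
  have hl1 : ∀ a ∈ gR ω, (l1 a : GL I9 F) ∈ M := fun a ha => by
    refine hN _ (Subgroup.le_normalizer (l1_mem_R9 ω ha)) ?_
    rw [← sw_r1]
    exact mul_mem (mul_mem hswG (hR a ha)) hswG
  have hgen : ∀ (f : GL (Fin 3) F →* GL I9 F), (∀ b ∈ gR ω, f b ∈ M) → (∀ b, t0 * f b * t0⁻¹ = f (gT * b * gT⁻¹)) →
      ∀ b ∈ gR ω, f b ∈ O.map M.subtype := by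
    intro f hf hft b hb
    have hstep : ∀ s, s ∈ gR ω → gT * s * gT⁻¹ = s * s → f s ∈ O.map M.subtype := fun s hs es => by
      refine ⟨_, hO ▸ hzc ⟨f s, hf s hs⟩, ?_⟩
      rw [hz]
      show t0 * f s * t0⁻¹ * (f s)⁻¹ = f s
      rw [hft, es, map_mul, mul_inv_cancel_right]
    induction hb using Subgroup.closure_induction with
    | mem x hx =>
      rcases hx with rfl | rfl
      · exact hstep _ (gD_mem ω) (by rw [gT_mul_gD, mul_inv_cancel_right])
      · exact hstep _ (gS_mem ω) (by rw [gT_mul_gS, mul_inv_cancel_right])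
    | one => rw [map_one]; exact one_mem _
    | mul x y _ _ hx hy => rw [map_mul]; exact mul_mem hx hy
    | inv x _ hx => rw [map_inv]; exact inv_mem hx
  refine le_normalizer_of_solvable9 ω (fun g hg => mem_SL.1 (hMG hg).2)
    (hgood _ (good_r1Phi ω)) (hgood _ (good_sw ω)) (K := O.map M.subtype) (Subgroup.map_subtype_le _) (fun g hg => ?_)
    (solvable_of_surjective (f := (O.equivMapOfInjective _ M.subtype_injective).toMonoidHom) (MulEquiv.surjective _))
    (fun a ha => ⟨hgen r1 hr1 (fun b => by simpa using t0_conj 1 b) a ha,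
      hgen l1 hl1 (fun b => by simpa using t0_conj b 1) a ha⟩)
  refine Subgroup.mem_normalizer_iff.2 fun x => ⟨?_, ?_⟩
  · rintro ⟨y, hy, rfl⟩
    exact ⟨_, hOn.conj_mem y hy ⟨g, hg⟩, rfl⟩
  · rintro ⟨y, hy, e⟩
    refine ⟨_, hOn.conj_mem y hy (⟨g, hg⟩ : M)⁻¹, ?_⟩
    rw [map_mul, map_mul, map_inv, inv_inv, e]
    show g⁻¹ * (g * x * g⁻¹) * g = x
    group

end CfsgLib.Perm.Trans.ThreeDim.Nine.Two

namespace CfsgLib.Perm.Trans.ThreeDim.Nine

open Matrix Cfsg Cfsg.Geo CfsgLib.Perm.Trans CfsgLib.Perm.Trans.Unit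

/-- the clause for `p = 2` -/
theorem su9_symplectic_maximal_two {F : Type*} [Field F] [Fintype F] [CharP F 2] {R : Subgroup (GL (Fin 9) F)}
    (hcard : Fintype.card F = 2 ^ 2) (hsymp : IsSymplecticTypeGroup 3 R)
    (habs : ActsAbsolutelyIrreducibly (matrixSet R)) (hsim : R ≤ similarityGroup (hermForm 9 F 2))
    (h243 : Nat.card R = 243) (hZ : Nat.card (Subgroup.center R) = 3) :
    IsMaximalIn (GU 9 F 2 ⊓ specialLinear (Fin 9) F) (subgroupNormalizer R ⊓ (GU 9 F 2 ⊓ specialLinear (Fin 9) F)) :=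
  haveI : Fact (Nat.Prime 2) := ⟨Nat.prime_two⟩
  su9_clause_of_frame hcard rfl hsymp habs hsim h243 hZ fun ω => Two.su9_frame_two ω (by rw [hcard]; norm_num)

end CfsgLib.Perm.Trans.ThreeDim.Nine
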