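import Cfsg.Agent.Lib.Perm.Trans.ThreeDim.Nine.SU

/-!
# The field with four elements: the involution and its image
-/

set_option autoImplicit false
set_option linter.all false

namespace CfsgLib.Perm.Trans.ThreeDim.Nine.Two

open scoped Matrix
open Matrix Cfsg Cfsg.Geo CfsgLib.Perm.Trans CfsgLib.Perm.Trans.Unit CfsgLib.Perm.Trans.ThreeDim.Heis

/-- representatives of the pairs of opposite points -/
def pt : Fin 4 → I9 := ![(1, 0), (0, 1), (1, 1), (1, 2)]

/-- the origin -/
def p0 : I9 := (0, 0)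

section

variable {F : Type*} [Field F] [CharP F 2]

/-- pair sums -/
def Um : Matrix I9 (Fin 4) F := Matrix.of fun r a => if r = pt a ∨ r = -pt a then 1 else 0

/-- representatives -/
def Vm : Matrix I9 (Fin 4) F := Matrix.of fun r a => if r = pt a then 1 else 0

/-- the unit column at the origin -/
def em0 : Matrix I9 (Fin 1) F := Matrix.of fun r _ => if r = p0 then 1 else 0

/-- conjugate transpose -/
def st {m n : Type*} (A : Matrix m n F) : Matrix n m F := (A.map (frobenius F 2))ᵀ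

local notation "UM" => (Um (F := F))
local notation "VM" => (Vm (F := F))
local notation "E0" => (em0 (F := F))

theorem two_zero : (2 : F) = 0 := CharTwo.two_eq_zero

theorem add_self' {m n : Type*} (A : Matrix m n F) : A + A = 0 := by
  ext i j; exact CharTwo.add_self_eq_zero _

theorem st_apply {m n : Type*} (A : Matrix m n F) (i : n) (j : m) : st A i j = A j i ^ 2 := rfl

theorem st_mul {l m n : Type*} [Fintype m] (A : Matrix l m F) (B : Matrix m n F) : st (A * B) = st B * st A := by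
  simp only [st, Matrix.map_mul, Matrix.transpose_mul]

theorem st_add {m n : Type*} (A B : Matrix m n F) : st (A + B) = st A + st B := by
  simp only [st, Matrix.map_add _ (map_add _), Matrix.transpose_add]

theorem st_one {n : Type*} [DecidableEq n] : st (1 : Matrix n n F) = 1 := by simp [st]

theorem st_zero {m n : Type*} : st (0 : Matrix m n F) = 0 := by simp [st]

theorem st_transpose {m n : Type*} (A : Matrix m n F) (h : ∀ i j, A i j = 0 ∨ A i j = 1) : st A = Aᵀ := by
  ext i j
  rw [st_apply, Matrix.transpose_apply]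
  rcases h j i with e | e <;> simp [e]

theorem st_Um : st (UM : Matrix I9 (Fin 4) F) = UMᵀ := st_transpose _ fun i j => by
  unfold Um; rw [Matrix.of_apply]; split_ifs <;> simp

theorem st_Vm : st (VM : Matrix I9 (Fin 4) F) = VMᵀ := st_transpose _ fun i j => by
  unfold Vm; rw [Matrix.of_apply]; split_ifs <;> simp

theorem st_UmT : st (UMᵀ : Matrix (Fin 4) I9 F) = UM := by
  rw [st_transpose, Matrix.transpose_transpose]
  intro i j; unfold Um; rw [Matrix.transpose_apply, Matrix.of_apply]; split_ifs <;> simp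

theorem st_em0 : st (E0 : Matrix I9 (Fin 1) F) = E0ᵀ := st_transpose _ fun i j => by
  unfold em0; rw [Matrix.of_apply]; split_ifs <;> simp

theorem pt_facts : ∀ a b : Fin 4, (pt a = pt b ↔ a = b) ∧ pt a ≠ -pt b ∧ pt a ≠ p0 ∧ -pt a ≠ p0 := by decide

theorem Vm_mul {n : Type*} (M : Matrix I9 n F) : (VMᵀ : Matrix (Fin 4) I9 F) * M = Matrix.of fun a j => M (pt a) j := by
  ext a j
  rw [Matrix.mul_apply, Finset.sum_eq_single (pt a)] <;> simp +contextual [Vm]

theorem UmT_mul {n : Type*} (M : Matrix I9 n F) :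
    (UMᵀ : Matrix (Fin 4) I9 F) * M = Matrix.of fun a j => M (pt a) j + M (-pt a) j := by
  ext a j
  rw [Matrix.mul_apply, ← Finset.sum_subset (Finset.subset_univ ({pt a, -pt a} : Finset I9)),
    Finset.sum_pair (pt_facts a a).2.1]
  · simp [Um]
  · intro r _ hr
    simp only [Finset.mem_insert, Finset.mem_singleton, not_or] at hr
    simp [Um, hr.1, hr.2]

theorem VmT_Um : (VMᵀ : Matrix (Fin 4) I9 F) * UM = 1 := by
  rw [Vm_mul]
  ext a b
  obtain ⟨h1, h2, -, -⟩ := pt_facts a b
  simp [Um, h1, h2, Matrix.one_apply]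

theorem UmT_Vm : (UMᵀ : Matrix (Fin 4) I9 F) * VM = 1 := by
  have := congrArg Matrix.transpose (VmT_Um (F := F))
  rwa [Matrix.transpose_mul, Matrix.transpose_transpose, Matrix.transpose_one] at this

theorem UmT_Um : (UMᵀ : Matrix (Fin 4) I9 F) * UM = 0 := by
  rw [UmT_mul]
  ext a b
  obtain ⟨h1, h2, -, -⟩ := pt_facts a b
  simp only [Um, Matrix.of_apply, Matrix.zero_apply, neg_inj, h1, h2, or_false, neg_eq_iff_eq_neg, false_or, neg_neg]
  exact CharTwo.add_self_eq_zero (R := F) _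

theorem UmT_em0 : (UMᵀ : Matrix (Fin 4) I9 F) * E0 = 0 := by
  rw [UmT_mul]
  ext a j
  obtain ⟨-, -, h3, h4⟩ := pt_facts a a
  simp [em0, h3, h4]

theorem VmT_em0 : (VMᵀ : Matrix (Fin 4) I9 F) * E0 = 0 := by
  rw [Vm_mul]
  ext a j
  simp [em0, (pt_facts a a).2.2.1]

theorem em0T_em0 : (E0ᵀ : Matrix (Fin 1) I9 F) * E0 = 1 := by
  ext i j
  rw [Matrix.mul_apply, Finset.sum_eq_single p0] <;> simp +contextual [em0, Matrix.one_apply, Subsingleton.elim i j]

theorem em0T_Um : (E0ᵀ : Matrix (Fin 1) I9 F) * UM = 0 := by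
  have := congrArg Matrix.transpose (UmT_em0 (F := F))
  rwa [Matrix.transpose_mul, Matrix.transpose_transpose, Matrix.transpose_zero] at this

/-- the resolution of the identity -/
theorem one_eq : (1 : Matrix I9 I9 F) = E0 * E0ᵀ + VM * UMᵀ + UM * VMᵀ + UM * UMᵀ := by
  ext ⟨x, i⟩ ⟨y, j⟩
  fin_cases x <;> fin_cases i <;> fin_cases y <;> fin_cases j <;>
    simp [Matrix.add_apply, Matrix.mul_apply, Matrix.transpose_apply, Matrix.of_apply, Um, Vm, em0, pt, p0, Fin.sum_univ_four, Prod.ext_iff, Matrix.one_apply,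
      show (-1 : Fin 3) = 2 from rfl, show (-2 : Fin 3) = 1 from rfl, CharTwo.add_self_eq_zero]

/-- the shear, as a unipotent element -/
def uX (X : Matrix (Fin 4) (Fin 4) F) : GL I9 F where
  val := 1 + UM * X * UMᵀ
  inv := 1 + UM * X * UMᵀ
  val_inv := by
    have h : (UM * X * UMᵀ) * (UM * X * UMᵀ) = (0 : Matrix I9 I9 F) := by
      simp only [Matrix.mul_assoc]
      rw [← Matrix.mul_assoc UMᵀ UM, UmT_Um]; simp
    rw [add_mul, one_mul, mul_add, mul_one, h, add_zero, add_assoc, add_self', add_zero]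
  inv_val := by
    have h : (UM * X * UMᵀ) * (UM * X * UMᵀ) = (0 : Matrix I9 I9 F) := by
      simp only [Matrix.mul_assoc]
      rw [← Matrix.mul_assoc UMᵀ UM, UmT_Um]; simp
    rw [add_mul, one_mul, mul_add, mul_one, h, add_zero, add_assoc, add_self', add_zero]

theorem val_uX (X : Matrix (Fin 4) (Fin 4) F) : (uX X : Matrix I9 I9 F) = 1 + UM * X * UMᵀ := rfl

theorem uX_mul (X Y : Matrix (Fin 4) (Fin 4) F) : uX X * uX Y = uX (X + Y) := Units.ext (by
  have h : (UM * X * UMᵀ) * (UM * Y * UMᵀ) = (0 : Matrix I9 I9 F) := by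
    simp only [Matrix.mul_assoc]
    rw [← Matrix.mul_assoc UMᵀ UM, UmT_Um]; simp
  rw [Units.val_mul, val_uX, val_uX, val_uX, add_mul, one_mul, mul_add, mul_one, h, add_zero, Matrix.mul_add,
    Matrix.add_mul]
  abel)

theorem uX_zero : uX (0 : Matrix (Fin 4) (Fin 4) F) = 1 := Units.ext (by simp [val_uX])

theorem uX_injective {X Y : Matrix (Fin 4) (Fin 4) F} (h : uX X = uX Y) : X = Y := by
  have e : UM * X * UMᵀ = (UM * Y * UMᵀ : Matrix I9 I9 F) := add_left_cancel (congrArg Units.val h)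
  have e' := congrArg (fun M => VMᵀ * M * VM) e
  simp only [← Matrix.mul_assoc, VmT_Um, one_mul] at e'
  simpa only [Matrix.mul_assoc, UmT_Vm, Matrix.mul_one] using e'

/-- the point reflection -/
def t0 : GL I9 F := uX 1

theorem val_t0 : ((t0 : GL I9 F) : Matrix I9 I9 F) = 1 + UM * UMᵀ := by rw [t0, val_uX, Matrix.mul_one]

theorem t0_sq : (t0 : GL I9 F) * t0 = 1 := by rw [t0, uX_mul, add_self', uX_zero]

theorem t0_apply (r s : I9) : ((t0 : GL I9 F) : Matrix I9 I9 F) r s = if r = -s then 1 else 0 := by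
  obtain ⟨x, i⟩ := r
  obtain ⟨y, j⟩ := s
  rw [val_t0]
  fin_cases x <;> fin_cases i <;> fin_cases y <;> fin_cases j <;>
    simp [Matrix.add_apply, Matrix.mul_apply, Matrix.transpose_apply, Matrix.of_apply, Um, pt, Fin.sum_univ_four, Prod.ext_iff, Matrix.one_apply,
      show (-1 : Fin 3) = 2 from rfl, show (-2 : Fin 3) = 1 from rfl, CharTwo.add_self_eq_zero]

theorem t0_eq : (t0 : GL I9 F) = l1 gT * r1 gT := Units.ext (Matrix.ext fun ⟨x, i⟩ ⟨y, j⟩ => by
  rw [t0_apply, Units.val_mul, val_l1, val_r1, ← Matrix.mul_kronecker_mul, mul_one, one_mul, val_gT,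
    Matrix.kroneckerMap_apply]
  fin_cases x <;> fin_cases i <;> fin_cases y <;> fin_cases j <;>
    simp [tm, Prod.ext_iff, show (-1 : Fin 3) = 2 from rfl, show (-2 : Fin 3) = 1 from rfl, CharTwo.neg_eq])

/-- the action on the image of `t - 1` -/
def Am (n : GL I9 F) : Matrix (Fin 4) (Fin 4) F := UMᵀ * (n : Matrix I9 I9 F) * VM

theorem mul_Um {n : GL I9 F} (hn : Commute n t0) : (n : Matrix I9 I9 F) * UM = UM * Am n := by
  have h : (n : Matrix I9 I9 F) * (UM * UMᵀ) = UM * UMᵀ * (n : Matrix I9 I9 F) := by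
    have e := congrArg Units.val hn.eq
    rw [Units.val_mul, Units.val_mul, val_t0, mul_add, mul_one, add_mul, one_mul] at e
    exact add_left_cancel e
  have h' := congrArg (· * (VM : Matrix I9 (Fin 4) F)) h
  simp only [Matrix.mul_assoc, UmT_Vm, Matrix.mul_one] at h'
  rw [h', Am, Matrix.mul_assoc]

theorem Am_mul {n m : GL I9 F} (hn : Commute n t0) (hm : Commute m t0) : Am (n * m) = Am n * Am m := by
  have h := mul_Um (hn.mul_left hm)
  rw [Units.val_mul, Matrix.mul_assoc, mul_Um hm, ← Matrix.mul_assoc, mul_Um hn] at h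
  have h' := congrArg (fun M => (VMᵀ : Matrix (Fin 4) I9 F) * M) h
  simp only [← Matrix.mul_assoc, VmT_Um, Matrix.one_mul] at h'
  exact h'.symm

theorem Am_one : Am (1 : GL I9 F) = 1 := by rw [Am, Units.val_one, Matrix.mul_one, UmT_Vm]

theorem Am_uX (X : Matrix (Fin 4) (Fin 4) F) : Am (uX X) = 1 := by
  rw [Am, val_uX, Matrix.mul_add, Matrix.mul_one, Matrix.add_mul, UmT_Vm, ← Matrix.mul_assoc UMᵀ (UM * X),
    ← Matrix.mul_assoc UMᵀ UM, UmT_Um]
  simp

end

section

variable {F : Type*} [Field F] [Fintype F] [CharP F 2]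

local notation "UM" => (Um (F := F))
local notation "VM" => (Vm (F := F))
local notation "E0" => (em0 (F := F))


theorem mem_iso_iff {n : GL I9 F} :
    n ∈ isoU (f9 (F := F) 2) ↔ ((n⁻¹ : GL I9 F) : Matrix I9 I9 F) = st (n : Matrix I9 I9 F) := by
  have hent : ∀ a b, ((n : Matrix I9 I9 F)ᵀ * (n : Matrix I9 I9 F).map (frobenius F 2)) a b =
      f9 2 ((n : Matrix I9 I9 F) *ᵥ Pi.single a 1) ((n : Matrix I9 I9 F) *ᵥ Pi.single b 1) := fun a b => by
    rw [Matrix.mul_apply]
    simp [f9, Matrix.mulVec_single_one, Matrix.col, frobenius_def]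
  constructor
  · intro h
    have e : (n : Matrix I9 I9 F)ᵀ * (n : Matrix I9 I9 F).map (frobenius F 2) = 1 := by
      ext a b
      rw [hent, mem_isoU.1 h]
      simp [f9, Pi.single_apply, Matrix.one_apply, ite_pow, eq_comm]
    have e' := congrArg Matrix.transpose e
    rw [Matrix.transpose_mul, Matrix.transpose_transpose, Matrix.transpose_one] at e'
    exact (left_inv_eq_right_inv e' (Units.mul_inv n)).symm
  · intro h
    refine mem_isoU.2 fun u v => ?_
    have e : (n : Matrix I9 I9 F)ᵀ * (n : Matrix I9 I9 F).map (frobenius F 2) = 1 := by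
      have h1 : st (n : Matrix I9 I9 F) * (n : Matrix I9 I9 F) = 1 := by rw [← h, Units.inv_mul]
      have := congrArg Matrix.transpose h1
      rwa [Matrix.transpose_mul, st, Matrix.transpose_transpose, Matrix.transpose_one] at this
    have hf : ∀ a b, f9 (F := F) 2 a b = a ⬝ᵥ fun k => b k ^ 2 := fun a b => rfl
    rw [hf, hf, show (fun k => ((n : Matrix I9 I9 F) *ᵥ v) k ^ 2) =
        (n : Matrix I9 I9 F).map (frobenius F 2) *ᵥ fun k => v k ^ 2 from
      funext fun k => (by rw [← frobenius_def]; exact RingHom.map_mulVec (frobenius F 2) _ v k),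
      ← Matrix.vecMul_transpose, ← Matrix.dotProduct_mulVec, Matrix.mulVec_mulVec, e, Matrix.one_mulVec]

theorem Am_inv {n : GL I9 F} (hn : n ∈ isoU (f9 (F := F) 2)) (hc : Commute n t0) : Am n⁻¹ = st (Am n) := by
  have h := mul_Um (n := n⁻¹) hc.inv_left
  have h' := congrArg (fun M => (VMᵀ : Matrix (Fin 4) I9 F) * M) h
  simp only [← Matrix.mul_assoc, VmT_Um, Matrix.one_mul] at h'
  rw [← h', Am, st_mul, st_mul, st_Vm, st_UmT, mem_iso_iff.1 hn]
  rw [Matrix.mul_assoc]

theorem uX_conj {n : GL I9 F} (hn : n ∈ isoU (f9 (F := F) 2)) (hc : Commute n t0) (X : Matrix (Fin 4) (Fin 4) F) :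
    n * uX X * n⁻¹ = uX (Am n * X * st (Am n)) := by
  refine Units.ext ?_
  have e : (UMᵀ : Matrix (Fin 4) I9 F) * ((n⁻¹ : GL I9 F) : Matrix I9 I9 F) = st (Am n) * UMᵀ := by
    have := congrArg st (mul_Um hc)
    rwa [st_mul, st_mul, st_Um, ← mem_iso_iff.1 hn] at this
  rw [Units.val_mul, Units.val_mul, val_uX, val_uX, mul_add, mul_one, add_mul, Units.mul_inv]
  congr 1
  simp only [Matrix.mul_assoc]
  rw [e, ← Matrix.mul_assoc (n : Matrix I9 I9 F) UM, mul_Um hc]
  simp only [Matrix.mul_assoc]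

end

end CfsgLib.Perm.Trans.ThreeDim.Nine.Two
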