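import Cfsg.Agent.Lib.Perm.Trans.ThreeDim.Nine.Two.Dichotomy
import Cfsg.Agent.Lib.Perm.Trans.UnitMax

/-!
# A transvection generates everything over the frame normalizer
-/

set_option autoImplicit false
set_option linter.all false

namespace CfsgLib.Perm.Trans.ThreeDim.Nine.Two

open scoped Matrix
open Matrix Cfsg Cfsg.Geo CfsgLib.Perm.Asch CfsgLib.Perm.Trans CfsgLib.Perm.Trans.Unit CfsgLib.Perm.Trans.ThreeDim.Heis

variable {F : Type*} [Field F]

/-- the indicator vector -/
def ind (S : Finset I9) : I9 → F := fun k => if k ∈ S then 1 else 0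

/-- the support -/
def supp [DecidableEq F] (u : I9 → F) : Finset I9 := Finset.univ.filter fun k => u k ≠ 0

theorem supp_ind [DecidableEq F] (S : Finset I9) : supp (ind (F := F) S) = S := by
  ext k; simp [supp, ind]

theorem perm_mulVec {n : GL I9 F} {σ : I9 → I9} (hσ : Function.Injective σ)
    (h : ∀ r s, (n : Matrix I9 I9 F) r s = if r = σ s then 1 else 0) (u : I9 → F) (s : I9) :
    ((n : Matrix I9 I9 F) *ᵥ u) (σ s) = u s := by
  rw [Matrix.mulVec, dotProduct, Finset.sum_eq_single s]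
  · rw [h, if_pos rfl, one_mul]
  · intro s' _ hne
    rw [h, if_neg (fun e => hne (hσ e).symm), zero_mul]
  · simp

variable [Fintype F] [CharP F 2] (ω : Root F)

/-- a transvection forces the whole special unitary group -/
theorem eq_top_of_mem (hcard : Fintype.card F = 4) {H : Subgroup (GL I9 F)}
    (hG : H ≤ isoU (f9 (F := F) 2) ⊓ specialLinear I9 F)
    (hN : ∀ n ∈ Subgroup.normalizer (R9 ω : Set (GL I9 F)), n ∈ isoU (f9 (F := F) 2) ⊓ specialLinear I9 F → n ∈ H)
    (hX : uX rk1 ∈ H) : isoU (f9 (F := F) 2) ⊓ specialLinear I9 F ≤ H := by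
  classical
  obtain ⟨C⟩ := ctx_of_card (F := F) (q := 2) (by rw [hcard]; norm_num)
  have hf : IsUnitaryForm C.bar (f9 (F := F) 2) := isUnitary_f9 C
  have hle : H ≤ isoU (f9 (F := F) 2) := fun x hx => (hG hx).1
  obtain ⟨hR, -, hswG, -⟩ := su_hgen (p := 2) ω rfl (by simp [CharTwo.neg_eq])
  obtain ⟨Cs, hCs⟩ : ∃ Cs, Cs = centres hf H := ⟨_, rfl⟩
  have hsmul : ∀ u ∈ Cs, ∀ a : F, a • u ∈ Cs := fun u hu a => by rw [hCs] at hu ⊢; exact centres_smul hf hu a
  have hconj : ∀ n ∈ H, ∀ u ∈ Cs, (n : Matrix I9 I9 F) *ᵥ u ∈ Cs := fun n hn u hu => by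
    rw [hCs] at hu ⊢; exact centres_conj hf hle hn hu
  have hff : ∀ u, f9 (F := F) 2 u u = ((supp u).card : F) := fun u => by
    rw [supp, Finset.card_filter, Nat.cast_sum, f9]
    refine Finset.sum_congr rfl fun k _ => ?_
    by_cases h : u k = 0
    · simp [h]
    · simp [h, cube_eq_one hcard h]
  have hsum : ∀ a ∈ Cs, ∀ b ∈ Cs, f9 2 a b = 1 → a + b ∈ Cs := fun a ha b hb hab => by
    rw [hCs] at ha hb ⊢
    have := centres_line hf hle ha hb (by rw [hab]; exact one_ne_zero) (r := 1) (by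
      rw [one_smul, hf.add_left, herm_add_right hf, herm_add_right hf, ha.1, hb.1, hf.herm b a, hab, map_one, zero_add,
        add_zero]
      exact CharTwo.add_self_eq_zero _)
    rwa [one_smul] at this
  have hind : ∀ S T U : Finset I9, ind S ∈ Cs → ind T ∈ Cs → (S ∩ T).card % 2 = 1 → (S \ T) ∪ (T \ S) = U →
      ind U ∈ Cs := by
    intro S T U hS hT hodd hU
    have hab : f9 (F := F) 2 (ind S) (ind T) = 1 := by
      have : f9 (F := F) 2 (ind S) (ind T) = ((S ∩ T).card : F) := by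
        rw [show (S ∩ T) = Finset.univ.filter (fun k => k ∈ S ∧ k ∈ T) by ext k; simp, Finset.card_filter,
          Nat.cast_sum, f9]
        refine Finset.sum_congr rfl fun k _ => ?_
        by_cases h1 : k ∈ S <;> by_cases h2 : k ∈ T <;> simp [ind, h1, h2]
      rw [this, ← Nat.mod_add_div (S ∩ T).card 2, hodd]
      simp [CharTwo.two_eq_zero]
    convert hsum _ hS _ hT hab using 1
    funext k
    rw [← hU]
    by_cases h1 : k ∈ S <;> by_cases h2 : k ∈ T <;> simp [ind, h1, h2, CharTwo.add_self_eq_zero]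
  -- the centre of the given transvection
  obtain ⟨S0, hS0⟩ : ∃ S0 : Finset I9, S0 = {(1, 0), (2, 0), (0, 1), (0, 2)} := ⟨_, rfl⟩
  have hv0 : ind S0 ∈ Cs := by
    have hU : ∀ r, Um (F := F) r 0 + Um r 1 = ind S0 r := fun ⟨x, i⟩ => by
      rw [hS0]
      fin_cases x <;> fin_cases i <;>
        simp [Um, ind, pt, Prod.ext_iff, show (-1 : Fin 3) = 2 from rfl, show (-2 : Fin 3) = 1 from rfl]
    rw [hCs]
    refine ⟨by rw [hff, supp_ind, hS0]; simp [show ({(1, 0), (2, 0), (0, 1), (0, 2)} : Finset I9).card = 4 from rfl,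
      show (4 : F) = 2 * 2 by norm_num, CharTwo.two_eq_zero], fun c hc => ?_⟩
    rcases fix_cases hcard (show c ^ 2 = c by rw [← C.bar_eq, hc, CharTwo.neg_eq]) with rfl | rfl
    · rw [zero_smul]; exact has_zero_right _
    · have hφ : (1 : F) • hv hf (ind S0) = ind S0 := dot_ext hf fun x => by
        rw [one_smul, hv_dot, f9, dotProduct]
        refine Finset.sum_congr rfl fun k _ => ?_
        simp only [ind]
        split_ifs <;> simp
      rw [hφ]
      refine ⟨?_, ?_⟩
      · rw [dotProduct]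
        simp [ind, hS0, Fintype.sum_prod_type, Fin.sum_univ_three, Prod.ext_iff]
        grind [CharTwo.two_eq_zero]
      convert hX using 1
      refine gl_ext_vec fun x => ?_
      rw [tv_mulVec, val_uX, Matrix.add_mulVec, Matrix.one_mulVec]
      congr 1
      funext r
      have hent : ∀ s, (Um (F := F) * rk1 (F := F) * (Um (F := F))ᵀ : Matrix I9 I9 F) r s = ind S0 r * ind S0 s := fun s => by
        simp only [Matrix.mul_apply, Fin.sum_univ_four, Matrix.transpose_apply, rk1, Matrix.of_apply, ← hU]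
        simp
        ring
      simp only [Pi.smul_apply, smul_eq_mul, Matrix.mulVec, dotProduct, hent, Finset.sum_mul]
      exact Finset.sum_congr rfl fun s _ => by ring
  -- monomial generators
  have hperm : ∀ (n : GL I9 F) (σ : I9 → I9), n ∈ H → Function.Bijective σ →
      (∀ r s, (n : Matrix I9 I9 F) r s = if r = σ s then 1 else 0) →
      ∀ (S : Finset I9) (d : I9 → F), (fun k => d k * ind S k) ∈ Cs →
        ∀ d' : I9 → F, (∀ s, d' (σ s) = d s) → (fun k => d' k * ind (S.image σ) k) ∈ Cs := by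
    intro n σ hn hσ h S d hu d' hd
    convert hconj n hn _ hu using 1
    funext k
    obtain ⟨s, rfl⟩ := hσ.2 k
    rw [perm_mulVec hσ.1 h, hd]
    simp [ind, hσ.1.eq_iff]
  have hpermI : ∀ (n : GL I9 F) (σ : I9 → I9), n ∈ H → Function.Bijective σ →
      (∀ r s, (n : Matrix I9 I9 F) r s = if r = σ s then 1 else 0) →
      ∀ S : Finset I9, ind S ∈ Cs → ind (S.image σ) ∈ Cs := by
    intro n σ hn hσ h S hu
    simpa using hperm n σ hn hσ h S (fun _ => 1) (by simpa using hu) (fun _ => 1) (fun _ => rfl)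
  obtain ⟨T1, hT1⟩ : ∃ T1 : I9 → I9, T1 = fun k => (k.1 + 1, k.2) := ⟨_, rfl⟩
  obtain ⟨T2, hT2⟩ : ∃ T2 : I9 → I9, T2 = fun k => (k.1, k.2 + 1) := ⟨_, rfl⟩
  obtain ⟨SH, hSH⟩ : ∃ SH : I9 → I9, SH = fun k => (k.1, k.2 + k.1) := ⟨_, rfl⟩
  obtain ⟨NX, hNX⟩ : ∃ NX : I9 → I9, NX = fun k => (-k.1, k.2) := ⟨_, rfl⟩
  have hl1 : ∀ a ∈ gR ω, (l1 a : GL I9 F) ∈ H := fun a ha => by
    refine hN _ (Subgroup.le_normalizer (l1_mem_R9 ω ha)) ?_
    rw [← sw_r1]
    exact mul_mem (mul_mem hswG (hR a ha)) hswG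
  have hr1 : ∀ a ∈ gR ω, (r1 a : GL I9 F) ∈ H := fun a ha =>
    hN _ (Subgroup.le_normalizer (r1_mem_R9 ω ha)) (hR a ha)
  have bT1 : Function.Bijective T1 := by rw [hT1]; decide
  have bT2 : Function.Bijective T2 := by rw [hT2]; decide
  have bSH : Function.Bijective SH := by rw [hSH]; decide
  have bNX : Function.Bijective NX := by rw [hNX]; decide
  have bSW : Function.Bijective (Prod.swap : I9 → I9) := Prod.swap_bijective
  have eT1 : ∀ r s, (l1 gS : GL I9 F).val r s = if r = T1 s then 1 else 0 := fun ⟨x, i⟩ ⟨y, j⟩ => by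
    rw [l1_apply, val_gS, hT1]
    fin_cases x <;> fin_cases y <;> simp [sm, Prod.ext_iff]
  have eT2 : ∀ r s, (r1 gS : GL I9 F).val r s = if r = T2 s then 1 else 0 := fun ⟨x, i⟩ ⟨y, j⟩ => by
    rw [r1_apply, val_gS, hT2]
    fin_cases i <;> fin_cases j <;> simp [sm, Prod.ext_iff]
  have eSH : ∀ r s, (shr : GL I9 F).val r s = if r = SH s then 1 else 0 := fun ⟨x, i⟩ ⟨y, j⟩ => by
    rw [shr, bd_apply, hSH]
    by_cases hxy : x = y
    · subst hxy
      fin_cases x <;> fin_cases i <;> fin_cases j <;>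
        simp [sm, pow_two, Units.val_pow_eq_pow_val, val_gS, Matrix.mul_apply, Fin.sum_univ_three, Prod.ext_iff]
    · simp [hxy, Prod.ext_iff]
  have eNX : ∀ r s, (l1 gT : GL I9 F).val r s = if r = NX s then 1 else 0 := fun ⟨x, i⟩ ⟨y, j⟩ => by
    rw [l1_apply, val_gT, hNX]
    fin_cases x <;> fin_cases y <;> simp [tm, Prod.ext_iff, CharTwo.neg_eq, show (-1 : Fin 3) = 2 from rfl, show (-2 : Fin 3) = 1 from rfl]
  have eSW : ∀ r s, (sw : GL I9 F).val r s = if r = Prod.swap s then 1 else 0 := fun ⟨x, i⟩ ⟨y, j⟩ => by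
    show swM (x, i) (y, j) = _
    rw [swM_apply, CharTwo.neg_eq]
    simp [Prod.ext_iff, and_comm]
  have mT1 := hl1 _ (gS_mem ω)
  have mT2 := hr1 _ (gS_mem ω)
  have mSH : (shr : GL I9 F) ∈ H := hN _ (good_shr ω).1 (good_shr ω).2.1
  have mNX : (l1 gT : GL I9 F) ∈ H := hN _ (good_l1T ω).1 (good_l1T ω).2.1
  have mSW : (sw : GL I9 F) ∈ H := hN _ (good_sw ω).1 (good_sw ω).2.1
  -- a vector of weight two
  have hd0 : ind {((0, 2) : I9), (1, 1)} ∈ Cs := by
    have h := hpermI _ _ mT1 bT1 eT1 _ (hpermI _ _ mT2 bT2 eT2 _ (hpermI _ _ mT2 bT2 eT2 _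
      (hpermI _ _ mSH bSH eSH _ hv0)))
    refine hind S0 _ _ hv0 h ?_ ?_ <;> (rw [hS0, hT1, hT2, hSH]; decide)
  -- the pairs
  obtain ⟨Pr, hPr⟩ : ∃ Pr : I9 → I9 → Prop,
      ∀ a b, Pr a b ↔ ∀ d : I9 → F, d a ≠ 0 → d b ≠ 0 → (fun k => d k * ind {a, b} k) ∈ Cs :=
    ⟨_, fun _ _ => Iff.rfl⟩
  have hbase : Pr (0, 2) (1, 1) := (hPr _ _).2 fun d hx hy => by
    obtain ⟨e, he⟩ := cube_root_eq_pow ω (c := d (1, 1) * d (0, 2) ^ 2) (by
      have h1 := cube_eq_one hcard hx
      have h2 := cube_eq_one hcard hy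
      linear_combination (d (0, 2) * d (0, 2) ^ 2) ^ 2 * h2 + (d (0, 2) * d (0, 2) ^ 2 + 1) * h1)
    have hD : (l1 (gD ω) : GL I9 F) ^ e ∈ H := pow_mem (hl1 _ (gD_mem ω)) e
    convert hsmul _ (hconj _ hD _ hd0) (d (0, 2)) using 1
    funext ⟨x, i⟩
    rw [← map_pow, Pi.smul_apply, Matrix.mulVec, dotProduct]
    simp only [l1_apply, val_gD_pow, Fintype.sum_prod_type, Fin.sum_univ_three, smul_eq_mul]
    fin_cases x <;> fin_cases i <;> simp [ind, dm, Prod.ext_iff, ← he]
    linear_combination (-(d (1, 1))) * cube_eq_one hcard hx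
  have hpairImg : ∀ (n : GL I9 F) (σ : I9 → I9), n ∈ H → Function.Bijective σ →
      (∀ r s, (n : Matrix I9 I9 F) r s = if r = σ s then 1 else 0) → ∀ a b, Pr a b → Pr (σ a) (σ b) := by
    intro n σ hn hσ h a b hab
    rw [hPr] at hab ⊢
    intro d ha hb
    have := hperm n σ hn hσ h _ _ (hab (fun s => d (σ s)) ha hb) d (fun s => rfl)
    simpa using this
  obtain ⟨Dir, hDir⟩ : ∃ Dir : I9 → Prop, ∀ e, Dir e ↔ ∀ p, Pr p (p + e) := ⟨_, fun _ => Iff.rfl⟩
  have hD0 : Dir (1, 2) := (hDir _).2 (by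
    have s1 : ∀ p, Pr p (p + (1, 2)) → Pr (p + (1, 0)) (p + (1, 0) + (1, 2)) := fun p h => by
      have := hpairImg _ _ mT1 bT1 eT1 _ _ h
      rw [hT1, show (fun k : I9 => (k.1 + 1, k.2)) = fun k => k + (1, 0) from funext fun k => by ext <;> simp] at this
      beta_reduce at this
      rwa [add_right_comm] at this
    have s2 : ∀ p, Pr p (p + (1, 2)) → Pr (p + (0, 1)) (p + (0, 1) + (1, 2)) := fun p h => by
      have := hpairImg _ _ mT2 bT2 eT2 _ _ h
      rw [hT2, show (fun k : I9 => (k.1, k.2 + 1)) = fun k => k + (0, 1) from funext fun k => by ext <;> simp] at this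
      beta_reduce at this
      rwa [add_right_comm] at this
    have h0 : Pr (0, 2) ((0, 2) + (1, 2)) := hbase
    intro p
    have hm : ∀ m n : ℕ, Pr ((0, 2) + m • (1, 0) + n • (0, 1)) ((0, 2) + m • (1, 0) + n • (0, 1) + (1, 2)) := by
      intro m n
      induction n with
      | zero =>
        rw [zero_smul, add_zero]
        induction m with
        | zero => rw [zero_smul, add_zero]; exact h0
        | succ m ih => rw [succ_nsmul, ← add_assoc]; exact s1 _ ih
      | succ n ih => rw [succ_nsmul, ← add_assoc]; exact s2 _ ih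
    obtain ⟨m, n, hp⟩ := (by decide : ∀ p : I9, ∃ m n : Fin 3, p = (0, 2) + (m : ℕ) • (1, 0) + (n : ℕ) • (0, 1)) p
    rw [hp]; exact hm m n)
  have hDimg : ∀ (n : GL I9 F) (σ : I9 → I9), n ∈ H → Function.Bijective σ →
      (∀ r s, (n : Matrix I9 I9 F) r s = if r = σ s then 1 else 0) → (∀ a b, σ (a + b) = σ a + σ b) →
      ∀ e, Dir e → Dir (σ e) := by
    intro n σ hn hσ h hadd e he
    rw [hDir] at he ⊢
    intro p
    obtain ⟨q, rfl⟩ := hσ.2 p
    rw [← hadd]
    exact hpairImg n σ hn hσ h _ _ (he q)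
  have dN := hDimg _ _ mNX bNX eNX (by rw [hNX]; decide)
  have dS := hDimg _ _ mSH bSH eSH (by rw [hSH]; decide)
  have dW := hDimg _ _ mSW bSW eSW (by decide)
  rw [hNX] at dN
  rw [hSH] at dS
  have d22 : Dir (2, 2) := dN _ hD0
  have d21 : Dir (2, 1) := dW _ hD0
  have d10 : Dir (1, 0) := dS _ hD0
  have d20 : Dir (2, 0) := dN _ d10
  have d01 : Dir (0, 1) := dW _ d10
  have d02 : Dir (0, 2) := dW _ d20
  have d11 : Dir (1, 1) := dS _ d10
  have hpairs : ∀ a b, a ≠ b → Pr a b := by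
    intro a b hab
    obtain ⟨e, he, hb⟩ : ∃ e, e ≠ 0 ∧ b = a + e := ⟨b - a, sub_ne_zero.2 (Ne.symm hab), (add_sub_cancel a b).symm⟩
    rw [hb]
    refine (hDir e).1 ?_ a
    obtain ⟨x, i⟩ := e
    fin_cases x <;> fin_cases i <;> first | assumption | exact absurd rfl he
  -- moves
  have hmove : ∀ a ∈ Cs, ∀ p q, a p ≠ 0 → a q = 0 → ∀ y : F, y ≠ 0 →
      Function.update (Function.update a p 0) q y ∈ Cs := by
    intro a ha p q hap haq y hy
    have hpq : p ≠ q := fun e => hap (e ▸ haq)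
    have hb := (hPr p q).1 (hpairs p q hpq) (Function.update (fun _ => a p) q y)
      (by rw [Function.update_of_ne hpq]; exact hap) (by rw [Function.update_self]; exact hy)
    convert hsum a ha _ hb ?_ using 1
    · funext k
      by_cases h1 : k = q
      · subst h1; simp [ind, haq]
      · by_cases h2 : k = p
        · subst h2; simp [ind, h1, CharTwo.add_self_eq_zero]
        · simp [ind, h1, h2]
    · rw [f9, Finset.sum_eq_single p]
      · simp [ind, hpq, cube_eq_one hcard hap]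
      · intro k _ hk
        by_cases h1 : k = q
        · subst h1; simp [haq]
        · simp [ind, h1, hk]
      · simp
  have hset : ∀ a ∈ Cs, ∀ p q, a p ≠ 0 → a q = 0 → ∀ y : F, y ≠ 0 → Function.update a p y ∈ Cs := by
    intro a ha p q hap haq y hy
    have hpq : p ≠ q := fun e => hap (e ▸ haq)
    have h := hmove _ (hmove a ha p q hap haq 1 one_ne_zero) q p (by simp) (by simp [hpq]) y hy
    convert h using 1
    funext k
    by_cases h1 : k = p
    · subst h1; simp
    · by_cases h2 : k = q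
      · subst h2; simp [h1, haq]
      · simp [h1, h2]
  have hweight : ∀ n, ∀ a ∈ Cs, ∀ u, (Finset.univ.filter fun k => a k ≠ u k).card = n →
      (supp a).card = (supp u).card → (supp a).card < 9 → u ∈ Cs := by
    intro n
    induction n using Nat.strong_induction_on with
    | _ n ih =>
      intro a ha u hn hw hlt
      by_cases heq : a = u
      · exact heq ▸ ha
      obtain ⟨q0, hq0⟩ : ∃ q, a q = 0 := by
        by_contra hcon
        push Not at hcon
        rw [supp, Finset.filter_true_of_mem (fun k _ => hcon k)] at hlt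
        simp at hlt
      by_cases hboth : ∃ p, a p ≠ 0 ∧ u p ≠ 0 ∧ a p ≠ u p
      · obtain ⟨p, h1, h2, h3⟩ := hboth
        refine ih _ ?_ _ (hset a ha p q0 h1 hq0 (u p) h2) u rfl ?_ ?_
        · rw [← hn]
          refine Finset.card_lt_card ((Finset.ssubset_iff_of_subset ?_).2 ⟨p, by simp [h3], by simp⟩)
          intro k
          by_cases hk : k = p <;> simp [hk]
        all_goals
          rw [show supp (Function.update a p (u p)) = supp a by
            ext k; by_cases hk : k = p <;> simp [supp, hk, h1, h2]]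
          assumption
      push Not at hboth
      have hne : supp a ≠ supp u := by
        intro e
        refine heq (funext fun k => ?_)
        have hk : a k ≠ 0 ↔ u k ≠ 0 := by simpa [supp] using Finset.ext_iff.1 e k
        by_cases h : a k = 0
        · rw [h]; exact (not_not.1 (mt hk.2 (not_not.2 h))).symm
        · exact hboth k h (hk.1 h)
      obtain ⟨p, hp1, hp2⟩ := Finset.not_subset.1 fun hs => hne (Finset.eq_of_subset_of_card_le hs hw.ge)
      obtain ⟨q, hq1, hq2⟩ := Finset.not_subset.1 fun hs => hne (Finset.eq_of_subset_of_card_le hs hw.le).symm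
      simp [supp] at hp1 hp2 hq1 hq2
      have hpq : p ≠ q := fun e => hq1 (e ▸ hp2)
      have hsupp : supp (Function.update (Function.update a p 0) q (u q)) = insert q ((supp a).erase p) := by
        ext k
        by_cases h1 : k = q
        · subst h1; simp [supp, hq1]
        · by_cases h2 : k = p
          · subst h2; simp [supp, h1]
          · simp [supp, h1, h2]
      have hc' : (supp (Function.update (Function.update a p 0) q (u q))).card = (supp a).card := by
        rw [hsupp, Finset.card_insert_of_notMem (by simp [supp, hq2]), Finset.card_erase_of_mem (by simp [supp, hp1])]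
        have : 0 < (supp a).card := Finset.card_pos.2 ⟨p, by simp [supp, hp1]⟩
        omega
      refine ih _ ?_ _ (hmove a ha p q hp1 hq2 (u q) hq1) u rfl (hc'.trans hw) (hc'.trans_lt hlt)
      rw [← hn]
      refine Finset.card_lt_card ((Finset.ssubset_iff_of_subset ?_).2 ⟨q, by simp [hq2, Ne.symm hq1], by simp⟩)
      intro k
      by_cases hk : k = q <;> by_cases hk' : k = p <;> simp_all
  have hall : ∀ S : Finset I9, ind S ∈ Cs → S.card < 9 → ∀ u, (supp u).card = S.card → u ∈ Cs := fun S hS hlt u hu =>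
    hweight _ _ hS u rfl (by rw [supp_ind, hu]) (by rwa [supp_ind])
  have h4 := hall S0 hv0 (by rw [hS0]; decide)
  have hfour : ∀ S : Finset I9, S.card = 4 → ind S ∈ Cs := fun S hS => h4 _ (by rw [supp_ind, hS, hS0]; decide)
  obtain ⟨S6, hS6⟩ : ∃ S6 : Finset I9, S6 = {(0, 1), (0, 2), (1, 0), (1, 1), (1, 2), (2, 0)} := ⟨_, rfl⟩
  have hs6 : ind S6 ∈ Cs := hind {(0, 0), (0, 1), (0, 2), (1, 0)} {(0, 0), (1, 1), (1, 2), (2, 0)} _
    (hfour _ (by decide)) (hfour _ (by decide)) (by decide) (by rw [hS6]; decide)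
  have h6 := hall S6 hs6 (by rw [hS6]; decide)
  have hs8 : ind {((0, 1) : I9), (0, 2), (1, 0), (1, 1), (1, 2), (2, 0), (2, 1), (2, 2)} ∈ Cs :=
    hind {(0, 0), (0, 1), (0, 2), (1, 0), (1, 1), (1, 2)} {(0, 0), (2, 0), (2, 1), (2, 2)} _
      (h6 _ (by rw [supp_ind, hS6]; decide)) (hfour _ (by decide)) (by decide) (by decide)
  refine isoU_inf_SL_le hf (fun u _ huu c hc => ?_) (Or.inl (by simp))
  suffices hu : u ∈ Cs by rw [hCs] at hu; exact hu.2 c hc
  rw [hff, CharP.cast_eq_zero_iff F 2] at huu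
  have hle9 : (supp u).card ≤ 9 := (Finset.card_le_univ _).trans (by simp)
  rcases (by omega : (supp u).card = 0 ∨ (supp u).card = 2 ∨ (supp u).card = 4 ∨ (supp u).card = 6 ∨ (supp u).card = 8)
    with h | h | h | h | h
  · have : u = 0 := funext fun k => by
      by_contra hk
      have : k ∈ supp u := by simpa [supp] using hk
      rw [Finset.card_eq_zero.1 h] at this
      simp at this
    rw [this, hCs]; exact centres_zero hf _
  · exact hall _ hd0 (by decide) u (h.trans (by decide))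
  · exact h4 u (h.trans (by rw [hS0]; decide))
  · exact h6 u (h.trans (by rw [hS6]; decide))
  · exact hall _ hs8 (by decide) u (h.trans (by decide))

end CfsgLib.Perm.Trans.ThreeDim.Nine.Two
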