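import Cfsg.Agent.Lib.Perm.Trans.ThreeDim.Nine.Two.Basic

/-!
# Invariant groups of hermitian forms in four variables
-/

set_option autoImplicit false
set_option linter.all false

namespace CfsgLib.Perm.Trans.ThreeDim.Nine.Two

open scoped Matrix
open Matrix CfsgLib.Perm.Trans.ThreeDim.Heis

variable {F : Type*} [Field F] [Fintype F] [CharP F 2]

theorem pow_four_eq (hcard : Fintype.card F = 4) (x : F) : x ^ 4 = x := hcard ▸ FiniteField.pow_card x

theorem cube_eq_one (hcard : Fintype.card F = 4) {x : F} (hx : x ≠ 0) : x * x ^ 2 = 1 :=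
  mul_left_cancel₀ hx (by linear_combination pow_four_eq hcard x)

theorem fix_cases (hcard : Fintype.card F = 4) {x : F} (hx : x ^ 2 = x) : x = 0 ∨ x = 1 := by
  by_cases h : x = 0
  · exact Or.inl h
  · exact Or.inr (mul_left_cancel₀ h (by rw [mul_one, ← sq, hx]))

/-- the rank one form of a vector of weight two -/
def rk1 : Matrix (Fin 4) (Fin 4) F := Matrix.of fun i j => if i.val < 2 ∧ j.val < 2 then 1 else 0

/-- an invariant group with a nonscalar form contains a rank one form -/
theorem rank_one_mem (ω : Root F) (hcard : Fintype.card F = 4) {P : Matrix (Fin 4) (Fin 4) F → Prop}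
    (hadd : ∀ X Y, P X → P Y → P (X + Y))
    (hinv : ∀ A : Matrix (Fin 4) (Fin 4) F, st A * A = 1 → A.det = 1 → ∀ X, P X → P (A * X * st A))
    (hherm : ∀ X, P X → st X = X) {X : Matrix (Fin 4) (Fin 4) F} (hX : P X) (hns : X ≠ X 0 0 • 1) : P rk1 := by
  have hμ3 : ω.μ * ω.μ ^ 2 = 1 := cube_eq_one hcard ω.ne_zero
  have hμ1 : ω.μ + ω.μ ^ 2 = 1 := by linear_combination ω.eq - (two_zero : (2 : F) = 0)
  have hinv' : ∀ A : Matrix (Fin 4) (Fin 4) F, st A * A = 1 → ∀ X, P X → P (A * X * st A) := by
    intro A hA X hX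
    have hd : A.det ≠ 0 := fun h => by
      have := congrArg Matrix.det hA
      rw [Matrix.det_mul, h, mul_zero, Matrix.det_one] at this
      exact zero_ne_one this
    obtain ⟨s, hs⟩ : ∃ s, s = A.det ^ 2 := ⟨_, rfl⟩
    have hs3 : s * s ^ 2 = 1 := cube_eq_one hcard (hs ▸ pow_ne_zero 2 hd)
    have hst : st (s • A) = s ^ 2 • st A := by ext i j; simp [st_apply, mul_pow]
    have h := hinv (s • A) (by rw [hst, Matrix.smul_mul, Matrix.mul_smul, hA, smul_smul, mul_comm, hs3, one_smul]) (by
      rw [Matrix.det_smul, Fintype.card_fin, pow_four_eq hcard, hs, mul_comm, cube_eq_one hcard hd]) X hX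
    rwa [hst, Matrix.smul_mul, Matrix.smul_mul, Matrix.mul_smul, smul_smul, hs3, one_smul] at h
  have hdiag : ∀ d : Fin 4 → F, (∀ i, d i ≠ 0) → ∀ X, P X → P (Matrix.of fun i j => d i * X i j * d j ^ 2) := by
    intro d hd X hX
    have hst : st (Matrix.diagonal d) = Matrix.diagonal fun i => d i ^ 2 := by
      ext i j
      rw [st_apply]
      by_cases h : i = j
      · subst h; simp
      · simp [h, Ne.symm h]
    have h := hinv' (Matrix.diagonal d) (by
      rw [hst, Matrix.diagonal_mul_diagonal, ← Matrix.diagonal_one]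
      congr 1; funext i; rw [mul_comm]; exact cube_eq_one hcard (hd i)) X hX
    convert h using 1
    ext i j
    rw [hst, Matrix.mul_diagonal, Matrix.diagonal_mul]; rfl
  have hperm : ∀ s : Equiv.Perm (Fin 4), ∀ X, P X → P (X.submatrix s s) := by
    intro s X hX
    have hst : st ((1 : Matrix (Fin 4) (Fin 4) F).submatrix s id) = (1 : Matrix (Fin 4) (Fin 4) F).submatrix id s := by
      ext i j
      by_cases h : s j = i
      · simp [st_apply, Matrix.one_apply, h]
      · simp [st_apply, Matrix.one_apply, h, Ne.symm h]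
    have h := hinv' ((1 : Matrix (Fin 4) (Fin 4) F).submatrix s id) (by
      rw [hst, Matrix.submatrix_mul_equiv, Matrix.one_mul, Matrix.submatrix_id_id]) X hX
    rw [hst] at h
    convert h using 1
    ext i j
    simp [Matrix.mul_apply, Matrix.one_apply]
  obtain ⟨E, hE⟩ : ∃ E : Fin 4 → Fin 4 → F → Matrix (Fin 4) (Fin 4) F,
      E = fun a b x => Matrix.single a b x + Matrix.single b a (x ^ 2) := ⟨_, rfl⟩
  -- isolate an entry
  have hiso : ∀ Y, P Y → ∀ a b, a ≠ b → Y a b ≠ 0 → ∀ x, x ≠ 0 → P (E a b x) := by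
    intro Y hY a b hab hne x hx
    obtain ⟨d, hd⟩ : ∃ d : Fin 4 → Fin 4 → F, d = fun c i => if i = c then ω.μ else 1 := ⟨_, rfl⟩
    have hd0 : ∀ c i, d c i ≠ 0 := fun c i => by rw [hd]; show (if i = c then ω.μ else 1) ≠ 0; split_ifs <;> simp [ω.ne_zero]
    have h1 := hadd _ _ hY (hdiag (d a) (hd0 a) Y hY)
    have h2 := hadd _ _ h1 (hdiag (d b) (hd0 b) _ h1)
    have hba : Y b a = Y a b ^ 2 := by conv_lhs => rw [← hherm Y hY, st_apply]
    obtain ⟨c, hc⟩ : ∃ c, c = x * Y a b ^ 2 := ⟨_, rfl⟩
    have h3 := hdiag (fun i => if i = a then c else 1) (fun i => by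
      show (if i = a then c else 1) ≠ 0
      split_ifs
      · exact hc ▸ mul_ne_zero hx (pow_ne_zero 2 hne)
      · exact one_ne_zero) _ h2
    convert h3 using 1
    have hY3 := cube_eq_one hcard hne
    ext i j
    simp only [hE, hd, Matrix.add_apply, Matrix.of_apply, Matrix.single_apply]
    by_cases hia : i = a <;> by_cases hib : i = b <;> by_cases hja : j = a <;> by_cases hjb : j = b
    all_goals first | exact absurd (hia.symm.trans hib) hab | exact absurd (hja.symm.trans hjb) hab |
      simp [hia, hib, hja, hjb, hab, hab.symm, Ne.symm hia, Ne.symm hib, Ne.symm hja, Ne.symm hjb, hba, hc] |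
      simp [hia, hib, hja, hjb, hab, hab.symm, hba, hc, eq_comm]
    all_goals grind [ω.eq, CharTwo.two_eq_zero]
  have key : P (E 0 1 1) ∧ P (Matrix.diagonal ![(1 : F), 1, 0, 0]) := by
    obtain ⟨T, hT⟩ : ∃ T : Matrix (Fin 4) (Fin 4) F, T = Matrix.of fun i j => if i = j then 0 else 1 := ⟨_, rfl⟩
    have hTst : st T = T := by
      ext i j; rw [st_apply, hT]
      by_cases h : i = j
      · simp [h]
      · simp [h, Ne.symm h]
    have hTT : T * T = 1 := by
      ext i j
      fin_cases i <;> fin_cases j <;>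
        simp [hT, Matrix.mul_apply, Fin.sum_univ_four] <;> grind [CharTwo.two_eq_zero]
    have hTP : ∀ Y, P Y → P (T * Y * T) := fun Y hY => by
      have := hinv' T (by rw [hTst, hTT]) Y hY
      rwa [hTst] at this
    -- everything from one entry off the diagonal
    have full : ∀ Y, P Y → ∀ a b, a ≠ b → Y a b ≠ 0 → P (E 0 1 1) ∧ P (Matrix.diagonal ![(1 : F), 1, 0, 0]) := by
      intro Y hY a b hab hne
      have hall : ∀ i j, i ≠ j → ∀ x, x ≠ 0 → P (E i j x) := by
        intro i j hij x hx
        obtain ⟨s, hs1, hs2⟩ := (by decide : ∀ i j a b : Fin 4, i ≠ j → a ≠ b → ∃ s : Equiv.Perm (Fin 4), s i = a ∧ s j = b)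
          i j a b hij hab
        exact hiso _ (hperm s Y hY) i j hij (by simpa [hs1, hs2] using hne) x hx
      refine ⟨hall 0 1 (by decide) 1 one_ne_zero, ?_⟩
      have h0 := hTP _ (hall 0 1 (by decide) ω.μ ω.ne_zero)
      have h1 := hperm (Equiv.swap 0 2 * Equiv.swap 1 3) _ h0
      obtain ⟨Z, hZ⟩ : ∃ Z, Z = (T * E 0 1 ω.μ * T).submatrix
          (Equiv.swap (0 : Fin 4) 2 * Equiv.swap (1 : Fin 4) 3 : Equiv.Perm (Fin 4))
          (Equiv.swap (0 : Fin 4) 2 * Equiv.swap (1 : Fin 4) 3 : Equiv.Perm (Fin 4)) := ⟨_, rfl⟩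
      rw [← hZ] at h1
      have hZd : ∀ i, Z i i = ![(1 : F), 1, 0, 0] i := by
        intro i
        fin_cases i <;>
          simp [hZ, hT, hE, Matrix.mul_apply, Matrix.single_apply, Fin.sum_univ_four, Equiv.swap_apply_def] <;>
          grind [ω.eq, CharTwo.two_eq_zero]
      have hclear : ∀ (s : Finset (Fin 4 × Fin 4)), (∀ ij ∈ s, ij.1 < ij.2) →
          P (Z + ∑ ij ∈ s, E ij.1 ij.2 (Z ij.1 ij.2)) := by
        intro s
        induction s using Finset.induction_on with
        | empty => intro; simpa using h1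
        | insert ij s hij ih =>
          intro hs
          rw [Finset.sum_insert hij, add_comm (E _ _ _), ← add_assoc]
          have ih' := ih fun x hx => hs x (Finset.mem_insert_of_mem hx)
          by_cases h0 : Z ij.1 ij.2 = 0
          · have : E ij.1 ij.2 (Z ij.1 ij.2) = 0 := by rw [h0, hE]; simp
            rwa [this, add_zero]
          · exact hadd _ _ ih' (hall _ _ (hs ij (Finset.mem_insert_self _ _)).ne _ h0)
      have := hclear (Finset.univ.filter fun ij : Fin 4 × Fin 4 => ij.1 < ij.2) (by simp)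
      convert this using 1
      have hsym : ∀ i j, Z j i = Z i j ^ 2 := fun i j => by conv_lhs => rw [← hherm Z h1, st_apply]
      rw [show (Finset.univ.filter fun ij : Fin 4 × Fin 4 => ij.1 < ij.2) =
        {(0, 1), (0, 2), (0, 3), (1, 2), (1, 3), (2, 3)} by decide]
      simp only [Finset.sum_insert, Finset.sum_singleton, Finset.mem_insert, Finset.mem_singleton, Prod.ext_iff,
        Fin.reduceEq, and_false, false_and, or_self, not_false_eq_true, and_self, hE]
      ext i j
      fin_cases i <;> fin_cases j <;>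
        simp [Matrix.add_apply, Matrix.single_apply, hZd, CharTwo.add_self_eq_zero, ← hsym]
    by_cases hoff : ∃ a b, a ≠ b ∧ X a b ≠ 0
    · obtain ⟨a, b, hab, hne⟩ := hoff
      exact full X hX a b hab hne
    push Not at hoff
    obtain ⟨b, hb⟩ : ∃ b, X b b ≠ X 0 0 := by
      by_contra h
      push Not at h
      refine hns (Matrix.ext fun i j => ?_)
      by_cases hij : i = j
      · subst hij; simp [h i]
      · simp [hoff i j hij, hij]
    have hb0 : b ≠ 0 := fun e => hb (by rw [e])
    have hfix : ∀ i, X i i = 0 ∨ X i i = 1 := fun i => fix_cases hcard (by conv_rhs => rw [← hherm X hX, st_apply])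
    have hsum : X 0 0 + X b b = 1 := by
      rcases hfix 0 with h | h <;> rcases hfix b with h' | h' <;> simp_all
    have hP01 : P (Matrix.diagonal fun i => if i = 0 ∨ i = b then (1 : F) else 0) := by
      convert hadd _ _ hX (hperm (Equiv.swap 0 b) X hX) using 1
      ext i j
      by_cases hij : i = j
      · subst hij
        simp only [Matrix.diagonal_apply_eq, Matrix.add_apply, Matrix.submatrix_apply]
        by_cases hi0 : i = 0
        · subst hi0; simp [hsum]
        · by_cases hib : i = b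
          · subst hib; simp [add_comm (X i i), hsum]
          · simp [hi0, hib, Equiv.swap_apply_of_ne_of_ne hi0 hib, CharTwo.add_self_eq_zero]
      · simp [hij, hoff i j hij, hoff _ _ ((Equiv.swap (0 : Fin 4) b).injective.ne hij)]
    obtain ⟨c, hc0, hcb⟩ := (by decide : ∀ b : Fin 4, ∃ c, c ≠ 0 ∧ c ≠ b) b
    refine full _ (hTP _ hP01) 0 c hc0.symm ?_
    fin_cases b <;> fin_cases c <;>
      simp [hT, Matrix.mul_apply, Fin.sum_univ_four] at hb0 hc0 hcb ⊢
  convert hadd _ _ key.2 key.1 using 1
  ext i j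
  fin_cases i <;> fin_cases j <;> simp [rk1, hE, Matrix.single_apply]

end CfsgLib.Perm.Trans.ThreeDim.Nine.Two
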