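import Cfsg.Agent.Lib.Perm.Trans.ThreeDim.Nine.Two.Elements
import Cfsg.Agent.Lib.Perm.Trans.ThreeDim.Nine.Two.Form

/-!
# The image in dimension four is the whole special unitary group
-/

set_option autoImplicit false
set_option linter.all false

namespace CfsgLib.Perm.Trans.ThreeDim.Nine.Two

open scoped Matrix
open Matrix Cfsg Cfsg.Geo CfsgLib.Perm.Asch CfsgLib.Perm.Trans CfsgLib.Perm.Trans.Unit CfsgLib.Perm.Trans.ThreeDim.Heis

variable {F : Type*} [Field F] [Fintype F] [CharP F 2] (ω : Root F)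

/-- the image group in dimension four -/
def M4 : Subgroup (GL (Fin 4) F) where
  carrier := {A | ∃ n : GL I9 F, Good ω n ∧ Am n = (A : Matrix (Fin 4) (Fin 4) F)}
  one_mem' := ⟨1, good_one ω, by rw [Am_one, Units.val_one]⟩
  mul_mem' := by
    rintro A B ⟨n, hn, e⟩ ⟨m, hm, e'⟩
    exact ⟨n * m, good_mul ω hn hm, by rw [Am_mul hn.2.2 hm.2.2, e, e', Units.val_mul]⟩
  inv_mem' := by
    rintro A ⟨n, hn, e⟩
    refine ⟨n⁻¹, good_inv ω hn, ?_⟩
    have h := Am_mul hn.2.2.inv_left hn.2.2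
    rw [inv_mul_cancel, Am_one, e] at h
    exact left_inv_eq_right_inv h.symm (Units.mul_inv A)

theorem exists_M4 {n : GL I9 F} (hn : Good ω n) :
    ∃ A : GL (Fin 4) F, A ∈ M4 ω ∧ (A : Matrix (Fin 4) (Fin 4) F) = Am n := by
  refine ⟨⟨Am n, Am n⁻¹, ?_, ?_⟩, ⟨n, hn, rfl⟩, rfl⟩
  · rw [← Am_mul hn.2.2 hn.2.2.inv_left, mul_inv_cancel, Am_one]
  · rw [← Am_mul hn.2.2.inv_left hn.2.2, inv_mul_cancel, Am_one]

theorem mem_GU4 {A : GL (Fin 4) F} (h : st (A : Matrix (Fin 4) (Fin 4) F) * (A : Matrix (Fin 4) (Fin 4) F) = 1) :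
    A ∈ GU 4 F 2 := by
  intro u v
  have e : (A : Matrix (Fin 4) (Fin 4) F)ᵀ * (A : Matrix (Fin 4) (Fin 4) F).map (frobenius F 2) = 1 := by
    have := congrArg Matrix.transpose h
    rwa [Matrix.transpose_mul, st, Matrix.transpose_transpose, Matrix.transpose_one] at this
  have hf : ∀ a b : Fin 4 → F, hermForm 4 F 2 a b = a ⬝ᵥ fun k => b k ^ 2 := fun a b => rfl
  show hermForm 4 F 2 ((A : Matrix (Fin 4) (Fin 4) F) *ᵥ u) ((A : Matrix (Fin 4) (Fin 4) F) *ᵥ v) = _
  rw [hf, hf, show (fun k => ((A : Matrix (Fin 4) (Fin 4) F) *ᵥ v) k ^ 2) =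
      (A : Matrix (Fin 4) (Fin 4) F).map (frobenius F 2) *ᵥ fun k => v k ^ 2 from
    funext fun k => (by rw [← frobenius_def]; exact RingHom.map_mulVec (frobenius F 2) _ v k),
    ← Matrix.vecMul_transpose, ← Matrix.dotProduct_mulVec, Matrix.mulVec_mulVec, e, Matrix.one_mulVec]

theorem M4_le : M4 ω ≤ GU 4 F 2 := by
  rintro A ⟨n, hn, e⟩
  refine mem_GU4 ?_
  rw [← e, ← Am_inv hn.2.1.1 hn.2.2, ← Am_mul hn.2.2.inv_left hn.2.2, inv_mul_cancel, Am_one]

theorem Am_sw : Am (sw : GL I9 F) = (1 : Matrix (Fin 4) (Fin 4) F).submatrix (Equiv.swap 0 1) id := by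
  ext a b
  rw [Am_apply]
  show swM (pt a) (pt b) + swM (-pt a) (pt b) = _
  fin_cases a <;> fin_cases b <;>
    simp [swM_apply, pt, Matrix.one_apply, Equiv.swap_apply_def, CharTwo.neg_eq, CharTwo.add_self_eq_zero,
      show (-1 : Fin 3) = 2 from rfl, show (-2 : Fin 3) = 1 from rfl]

theorem Am_shr : Am (shr : GL I9 F) = Matrix.of fun a b => if a = ![2, 1, 3, 0] b then (1 : F) else 0 := by
  ext a b
  rw [Am_apply, shr]
  fin_cases a <;> fin_cases b <;>
    simp [bd_apply, pt, Units.val_pow_eq_pow_val, val_gS, sm, show (-1 : Fin 3) = 2 from rfl,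
      show (-2 : Fin 3) = 1 from rfl, pow_two, Matrix.mul_apply, Fin.sum_univ_three]

theorem Am_l1W : Am (l1 (wd ω)) = Matrix.diagonal ![ω.μ, 1, ω.μ, ω.μ] := by
  ext a b
  rw [Am_apply]
  fin_cases a <;> fin_cases b <;>
    simp [l1_apply, val_wd, pt, show (-1 : Fin 3) = 2 from rfl, show (-2 : Fin 3) = 1 from rfl]

theorem Am_r1W : Am (r1 (wd ω)) = Matrix.diagonal ![1, ω.μ, ω.μ, ω.μ] := by
  ext a b
  rw [Am_apply]
  fin_cases a <;> fin_cases b <;>
    simp [r1_apply, val_wd, pt, show (-1 : Fin 3) = 2 from rfl, show (-2 : Fin 3) = 1 from rfl]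

theorem Am_gauss : Am (bd fun x : Fin 3 => gD ω ^ (x : ℕ)) = Matrix.diagonal ![1, 1, ω.μ, ω.μ * ω.μ] := by
  ext a b
  rw [Am_apply]
  fin_cases a <;> fin_cases b <;>
    simp [bd_apply, pt, Units.val_pow_eq_pow_val, val_gD, dm, show (-1 : Fin 3) = 2 from rfl,
      show (-2 : Fin 3) = 1 from rfl, pow_two, Matrix.mul_apply, Fin.sum_univ_three] <;> grind [ω.cube]

theorem Phi_col : Am (r1 (gPhi ω 0)) *ᵥ ![1, 1, 0, 0] = ![(1 : F), 1, 1, 1] := by
  have hη : ω.η⁻¹ = 1 := by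
    have : ω.η = 1 := by
      show ω.μ - ω.μ * ω.μ = 1
      linear_combination ω.eq - (ω.μ * ω.μ + 1) * (two_zero : (2 : F) = 0)
    rw [this, inv_one]
  funext a
  simp only [Matrix.mulVec, dotProduct, Fin.sum_univ_four, Am_apply]
  fin_cases a <;>
    simp [r1_apply, val_gPhi, phim, hη, pt, show (-1 : Fin 3) = 2 from rfl, show (-2 : Fin 3) = 1 from rfl] <;>
    grind [ω.eq, CharTwo.two_eq_zero]

/-- all isotropic vectors are centres -/
theorem exists_image (hcard : Fintype.card F = 4) {A : Matrix (Fin 4) (Fin 4) F} (hA : st A * A = 1)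
    (hdet : A.det = 1) : ∃ n : GL I9 F, Good ω n ∧ Am n = A := by
  classical
  obtain ⟨C⟩ := ctx_of_card (F := F) (q := 2) (by rw [hcard]; norm_num)
  have hf : IsUnitaryForm C.bar (hermForm 4 F 2) := isUnitary_hermForm C
  have hle : M4 ω ≤ isoU (hermForm 4 F 2) := M4_le ω
  obtain ⟨Cs, hCs⟩ : ∃ Cs, Cs = centres hf (M4 ω) := ⟨_, rfl⟩
  have hconj : ∀ n, Good ω n → ∀ v ∈ Cs, Am n *ᵥ v ∈ Cs := by
    intro n hn v hv
    obtain ⟨B, hB, e⟩ := exists_M4 ω hn
    rw [hCs] at hv ⊢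
    exact e ▸ centres_conj hf hle hB hv
  have hsmul : ∀ v ∈ Cs, ∀ a : F, a • v ∈ Cs := fun v hv a => by rw [hCs] at hv ⊢; exact centres_smul hf hv a
  have hv0 : ![(1 : F), 1, 0, 0] ∈ Cs := by
    obtain ⟨B, hB, e⟩ := exists_M4 ω (good_sw ω)
    rw [Am_sw] at e
    rw [hCs]
    refine ⟨by simp [hermForm, Fin.sum_univ_four, CharTwo.add_self_eq_zero], fun c hc => ?_⟩
    rcases fix_cases hcard (show c ^ 2 = c by rw [← C.bar_eq, hc, CharTwo.neg_eq]) with rfl | rfl
    · rw [zero_smul]; exact has_zero_right _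
    · have hφ : (1 : F) • hv hf ![(1 : F), 1, 0, 0] = ![(1 : F), 1, 0, 0] := dot_ext hf fun v => by
        rw [one_smul, hv_dot]
        simp [hermForm, dotProduct, Fin.sum_univ_four]
      rw [hφ]
      refine ⟨by simp [dotProduct, Fin.sum_univ_four, CharTwo.add_self_eq_zero], ?_⟩
      convert hB using 1
      refine gl_ext_vec fun x => ?_
      rw [tv_mulVec, e]
      funext a
      fin_cases a <;>
        simp [Matrix.mulVec, dotProduct, Fin.sum_univ_four, Matrix.one_apply, Equiv.swap_apply_def] <;>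
        grind [CharTwo.two_eq_zero]
  have hP : ∀ (f : Fin 4 → Fin 4) (v : Fin 4 → F),
      (Matrix.of fun a b => if a = f b then (1 : F) else 0) *ᵥ v = fun a => ∑ b, if a = f b then v b else 0 := fun f v => by
    funext a; simp [Matrix.mulVec, dotProduct]
  have hdiag : ∀ (n : GL I9 F) (d : Fin 4 → F), Good ω n → Am n = Matrix.diagonal d → ∀ v ∈ Cs, ∀ k : ℕ,
      (fun a => d a ^ k * v a) ∈ Cs := by
    intro n d hn e v hv k
    induction k with
    | zero => simpa using hv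
    | succ k ih =>
      have := hconj n hn _ ih
      rw [e] at this
      convert this using 1
      funext a
      rw [Matrix.mulVec_diagonal, pow_succ]; ring
  -- the pairs
  obtain ⟨Pr, hPr⟩ : ∃ Pr : Fin 4 → Fin 4 → Prop,
      ∀ a b, Pr a b ↔ ∀ x y : F, x ≠ 0 → y ≠ 0 → (Pi.single a x + Pi.single b y : Fin 4 → F) ∈ Cs :=
    ⟨_, fun _ _ => Iff.rfl⟩
  have h01 : Pr 0 1 := (hPr 0 1).2 fun x y hx hy => by
    obtain ⟨k, hk⟩ := cube_root_eq_pow ω (c := x * y ^ 2) (by
      have h1 := cube_eq_one hcard hx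
      have h2 := cube_eq_one hcard hy
      linear_combination (y * y ^ 2) ^ 2 * h1 + (y * y ^ 2 + 1) * h2)
    have := hsmul _ (hdiag _ _ (good_l1W ω) (Am_l1W ω) _ hv0 k) y
    convert this using 1
    funext a
    fin_cases a <;> simp [← hk]
    linear_combination (-x) * cube_eq_one hcard hy
  have hperm : ∀ n (s : Fin 4 → Fin 4), Good ω n → Am n = Matrix.of (fun a b => if a = s b then (1 : F) else 0) →
      ∀ a b, Pr a b → Pr (s a) (s b) := by
    intro n s hn e a b h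
    rw [hPr] at h ⊢
    intro x y hx hy
    have := hconj n hn _ (h x y hx hy)
    rw [e, hP] at this
    convert this using 1
    funext c
    have key : ∀ d, (if c = s d then (Pi.single a x + Pi.single b y : Fin 4 → F) d else 0) =
        (if d = a then (if c = s a then x else 0) else 0) + (if d = b then (if c = s b then y else 0) else 0) := fun d => by
      by_cases h1 : d = a <;> by_cases h2 : d = b <;> subst_vars <;> simp [*, Pi.single_apply] <;> split_ifs <;>
        simp_all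
    rw [Finset.sum_congr rfl fun d _ => key d]
    simp [Finset.sum_add_distrib, Pi.single_apply]
  have hshr := hperm _ ![2, 1, 3, 0] (good_shr ω) Am_shr
  have hsw := hperm sw ![1, 0, 2, 3] (good_sw ω) (by
    rw [Am_sw]; ext a b; fin_cases a <;> fin_cases b <;> simp [Matrix.one_apply, Equiv.swap_apply_def])
  have hsym : ∀ a b, Pr a b → Pr b a := fun a b h => by
    rw [hPr] at h ⊢
    intro x y hx hy
    rw [add_comm]
    exact h y x hy hx
  have h21 : Pr 2 1 := hshr 0 1 h01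
  have h31 : Pr 3 1 := hshr 2 1 h21
  have h20 : Pr 2 0 := hsw 2 1 h21
  have h30 : Pr 3 0 := hsw 3 1 h31
  have h23 : Pr 2 3 := hsym _ _ (hshr 2 0 h20)
  have hpairs : ∀ a b, a ≠ b → Pr a b := by
    intro a b hab
    fin_cases a <;> fin_cases b <;> first | exact absurd rfl hab | assumption | exact hsym _ _ ‹_›
  have h1111 : ![(1 : F), 1, 1, 1] ∈ Cs := Phi_col ω ▸ hconj _ (good_r1Phi ω) _ hv0
  have hfour : ∀ v : Fin 4 → F, (∀ a, v a ≠ 0) → v ∈ Cs := by
    intro v hv
    have hroot : ∀ a, ∃ k : ℕ, v a * v 0 ^ 2 = ω.μ ^ k := fun a => cube_root_eq_pow ω (by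
      have h1 := cube_eq_one hcard (hv a)
      have h2 := cube_eq_one hcard (hv 0)
      linear_combination (v 0 * v 0 ^ 2) ^ 2 * h1 + (v 0 * v 0 ^ 2 + 1) * h2)
    choose k hk using hroot
    have hμ3 : ω.μ ^ 3 = 1 := by rw [pow_succ, sq]; exact ω.cube
    obtain ⟨i, j, l, e1, e2, e3⟩ := (by decide : ∀ b1 b2 b3 : Fin 3, ∃ i j l : Fin 3,
      (j : ℕ) % 3 = ((b1 : ℕ) + i) % 3 ∧ ((i : ℕ) + j + l) % 3 = ((b2 : ℕ) + i) % 3 ∧
        ((i : ℕ) + j + 2 * l) % 3 = ((b3 : ℕ) + i) % 3)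
      ⟨k 1 % 3, Nat.mod_lt _ (by norm_num)⟩ ⟨k 2 % 3, Nat.mod_lt _ (by norm_num)⟩ ⟨k 3 % 3, Nat.mod_lt _ (by norm_num)⟩
    have h := hsmul _ (hdiag _ _ (good_gauss ω) (Am_gauss ω) _ (hdiag _ _ (good_r1W ω) (Am_r1W ω) _
      (hdiag _ _ (good_l1W ω) (Am_l1W ω) _ h1111 i) j) l) (v 0 * (ω.μ ^ (i : ℕ)) ^ 2)
    convert h using 1
    have hi3 : ω.μ ^ (i : ℕ) * (ω.μ ^ (i : ℕ)) ^ 2 = 1 := cube_eq_one hcard (pow_ne_zero _ ω.ne_zero)
    have hv03 := cube_eq_one hcard (hv 0)
    funext a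
    have hka := hk a
    have main : ∀ n : ℕ, n % 3 = (k a % 3 + i) % 3 → v a = v 0 * (ω.μ ^ (i : ℕ)) ^ 2 * ω.μ ^ n := by
      intro n hn
      have e : ω.μ ^ n = ω.μ ^ (k a) * ω.μ ^ (i : ℕ) := by
        rw [← pow_add, pow_eq_pow_mod n hμ3, pow_eq_pow_mod (k a + i) hμ3, hn, Nat.add_mod (k a) i,
          Nat.add_mod (k a % 3) i, Nat.mod_mod]
      rw [e]
      linear_combination (-(v a)) * hv03 - (v 0 * v 0 ^ 2 * v a) * hi3 + (v 0 * (ω.μ ^ (i : ℕ)) ^ 3) * hka
    fin_cases a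
    · simp only [Fin.zero_eta, Pi.smul_apply, smul_eq_mul]
      simp
      linear_combination (-(v 0)) * hi3
    · simp only [Fin.mk_one, Pi.smul_apply, smul_eq_mul]
      simpa using main j (by simpa using e1)
    · have := main (i + j + l) (by simpa using e2)
      simp only [Pi.smul_apply, smul_eq_mul]
      simp [pow_add] at this ⊢
      linear_combination this
    · have := main (i + j + 2 * l) (by simpa using e3)
      simp only [Pi.smul_apply, smul_eq_mul]
      simp [pow_add, pow_mul] at this ⊢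
      linear_combination this
  have hall : ∀ u, hermForm 4 F 2 u u = 0 → u ∈ Cs := by
    intro u hu
    have h3 : ∀ x : F, x * x ^ 2 = if x = 0 then 0 else 1 := fun x => by
      split_ifs with h
      · rw [h]; simp
      · exact cube_eq_one hcard h
    simp only [hermForm, Fin.sum_univ_four, h3] at hu
    have hz : (∀ a, u a = 0) → u ∈ Cs := fun h => by
      rw [show u = 0 from funext h, hCs]; exact centres_zero hf _
    have hp : ∀ a b, a ≠ b → (∀ c, c ≠ a → c ≠ b → u c = 0) → u a ≠ 0 → u b ≠ 0 → u ∈ Cs := by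
      intro a b hab h ha hb
      rw [show u = Pi.single a (u a) + Pi.single b (u b) by
        funext c
        by_cases h1 : c = a
        · subst h1; simp [hab]
        by_cases h2 : c = b
        · subst h2; simp [h1]
        simp [h1, h2, h c h1 h2]]
      exact (hPr a b).1 (hpairs a b hab) _ _ ha hb
    by_cases h0 : u 0 = 0 <;> by_cases h1 : u 1 = 0 <;> by_cases h2 : u 2 = 0 <;> by_cases h3' : u 3 = 0 <;>
      simp [h0, h1, h2, h3', CharTwo.add_self_eq_zero] at hu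
    all_goals
      first
        | (refine hfour u ?_; intro a; fin_cases a <;> assumption)
        | (refine hz ?_; intro a; fin_cases a <;> assumption)
        | (refine hp 0 1 ?_ ?_ ?_ ?_ <;> first | decide | assumption | (intro c; fin_cases c <;> simp [*]; done))
        | (refine hp 0 2 ?_ ?_ ?_ ?_ <;> first | decide | assumption | (intro c; fin_cases c <;> simp [*]; done))
        | (refine hp 0 3 ?_ ?_ ?_ ?_ <;> first | decide | assumption | (intro c; fin_cases c <;> simp [*]; done))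
        | (refine hp 1 2 ?_ ?_ ?_ ?_ <;> first | decide | assumption | (intro c; fin_cases c <;> simp [*]; done))
        | (refine hp 1 3 ?_ ?_ ?_ ?_ <;> first | decide | assumption | (intro c; fin_cases c <;> simp [*]; done))
        | (refine hp 2 3 ?_ ?_ ?_ ?_ <;> first | decide | assumption | (intro c; fin_cases c <;> simp [*]; done))
  obtain ⟨B, hB⟩ : ∃ B : GL (Fin 4) F, (B : Matrix (Fin 4) (Fin 4) F) = A :=
    ⟨Matrix.GeneralLinearGroup.mkOfDetNeZero A (by rw [hdet]; exact one_ne_zero), rfl⟩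
  have hBG : B ∈ isoU (hermForm 4 F 2) ⊓ specialLinear (Fin 4) F :=
    ⟨mem_GU4 (by rw [hB]; exact hA), mem_SL.2 (by rw [hB]; exact hdet)⟩
  obtain ⟨n, hn, e⟩ := isoU_inf_SL_le hf (fun u _ huu c hc => by
    have := hall u huu
    rw [hCs] at this
    exact this.2 c hc) (Or.inl (by simp)) hBG
  exact ⟨n, hn, e.trans hB⟩

end CfsgLib.Perm.Trans.ThreeDim.Nine.Two
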