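import Cfsg.Agent.Lib.Perm.Trans.ThreeDim.Nine.Two.Elements

/-!
# The point reflection is isolated in the frame normalizer
-/

set_option autoImplicit false
set_option linter.all false

namespace CfsgLib.Perm.Trans.ThreeDim.Nine.Two

open scoped Matrix
open Matrix Cfsg Cfsg.Geo CfsgLib.Perm.Trans CfsgLib.Perm.Trans.Unit CfsgLib.Perm.Trans.ThreeDim.Heis

variable {F : Type*} [Field F]

/-- a square zero map commuting with a monomial element of order three has rank at most three -/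
theorem finrank_range_le_three [CharP F 2] {V : Type*} [AddCommGroup V] [Module F V] [FiniteDimensional F V]
    (hV : Module.finrank F V = 9) {y z N : V →ₗ[F] V} (hz : Function.Injective z) {c : F}
    (hc : c * c + c + 1 = 0) (hy : ∀ v, y (y (y v)) = v) (hzy : ∀ v, z (y v) = c • y (z v))
    (hN : ∀ v, N (N v) = 0) (hNy : ∀ v, N (y v) = y (N v)) :
    Module.finrank F (LinearMap.range N) ≤ 3 := by
  have h3 : c * c * c = 1 := by linear_combination (c - 1) * hc
  have htwo : (2 : F) = 0 := CharTwo.two_eq_zero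
  have hc1 : c ≠ 1 := fun h => one_ne_zero (α := F) (by subst h; linear_combination hc - htwo)
  obtain ⟨E, hE⟩ : ∃ E : F → Submodule F V, E = fun ν => LinearMap.ker (y - ν • LinearMap.id) := ⟨_, rfl⟩
  have mem : ∀ ν v, v ∈ E ν ↔ y v = ν • v := fun ν v => by
    rw [hE]; simp [sub_eq_zero]
  have hmove : ∀ ν, Module.finrank F (E ν) ≤ Module.finrank F (E (c * c * ν)) := fun ν => by
    rw [(Submodule.equivMapOfInjective z hz (E ν)).finrank_eq]
    refine Submodule.finrank_mono ?_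
    rintro _ ⟨v, hv, rfl⟩
    have h := hzy v
    rw [(mem ν v).1 hv, map_smul] at h
    refine (mem _ _).2 ?_
    rw [mul_smul, h, smul_smul, h3, one_smul]
  have e1 := hmove 1
  have e2 := hmove (c * c * 1)
  have e3 := hmove (c * c * (c * c * 1))
  rw [show c * c * (c * c * (c * c * 1)) = 1 by linear_combination (c * c * c + 1) * h3] at e3
  rw [show c * c * (c * c * 1) = c by linear_combination c * h3] at e2 e3
  rw [mul_one] at e1 e2
  have hd12 : E 1 ⊓ E c = ⊥ := by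
    refine (Submodule.eq_bot_iff _).2 fun v ⟨h, h'⟩ => ?_
    have e : (c - 1) • v = 0 := by rw [sub_smul, ← (mem c v).1 h', ← (mem 1 v).1 h, sub_self]
    exact (smul_eq_zero.1 e).resolve_left (sub_ne_zero.2 hc1)
  have hd3 : (E 1 ⊔ E c) ⊓ E (c * c) = ⊥ := by
    refine (Submodule.eq_bot_iff _).2 fun v ⟨h, h'⟩ => ?_
    obtain ⟨a, ha, b, hb, rfl⟩ := Submodule.mem_sup.1 h
    have ea := (mem 1 a).1 ha
    have eb := (mem c b).1 hb
    have e := (mem _ _).1 h'
    rw [map_add, ea, eb] at e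
    have e' := congrArg y e
    rw [map_add, map_smul, map_smul, map_smul, map_add, ea, eb] at e'
    have e5 : ((c - 1) * (c - c * c)) • b = 0 := by
      linear_combination (norm := module) e' - e
    have hc0 : c ≠ 0 := fun h => by rw [h] at h3; simp at h3
    have hb0 : b = 0 := (smul_eq_zero.1 e5).resolve_left (mul_ne_zero (sub_ne_zero.2 hc1)
      (sub_ne_zero.2 fun h => hc1 (mul_left_cancel₀ hc0 (by rw [mul_one]; exact h.symm))))
    rw [hb0, smul_zero, add_zero, add_zero, one_smul] at e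
    have e6 : (c * c - 1) • a = 0 := by rw [sub_smul, one_smul, ← e, sub_self]
    have hcc : c * c ≠ 1 := fun h => hc1 (by
      calc c = c * (c * c) := by rw [h, mul_one]
        _ = 1 := by linear_combination h3)
    rw [hb0, (smul_eq_zero.1 e6).resolve_left (sub_ne_zero.2 hcc), add_zero]
  have htop : E 1 ⊔ E c ⊔ E (c * c) = ⊤ := by
    refine eq_top_iff.2 fun v _ => ?_
    have hP : ∀ ν : F, ν * ν * ν = 1 → v + (ν * ν) • y v + ν • y (y v) ∈ E ν := fun ν hν => (mem _ _).2 (by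
      rw [map_add, map_add, map_smul, map_smul, hy, smul_add, smul_add, smul_smul, smul_smul,
        show ν * (ν * ν) = 1 by linear_combination hν, one_smul]
      module)
    have hsum := Submodule.add_mem_sup (Submodule.add_mem_sup (hP 1 (by ring)) (hP c h3))
      (hP (c * c) (by linear_combination (c * c * c + 1) * h3))
    rw [show c * c * (c * c) = c by linear_combination c * h3] at hsum
    convert hsum using 1
    have ez : c * c + c + 1 = 0 := hc
    match_scalars <;> first | linear_combination (-1 : F) * htwo | linear_combination (-1 : F) * ez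
  have hsum9 : Module.finrank F (E 1) + Module.finrank F (E c) + Module.finrank F (E (c * c)) = 9 := by
    have a1 := Submodule.finrank_sup_add_finrank_inf_eq (E 1) (E c)
    have a2 := Submodule.finrank_sup_add_finrank_inf_eq (E 1 ⊔ E c) (E (c * c))
    rw [hd12, finrank_bot] at a1
    rw [hd3, finrank_bot, htop, finrank_top, hV] at a2
    omega
  have hsmall : ∀ ν, Module.finrank F (E ν) = 3 → Module.finrank F ((E ν).map N) ≤ 1 := fun ν h3 => by
    have hinv : ∀ v ∈ E ν, N v ∈ E ν := fun v hv => (mem _ _).2 (by rw [← hNy, (mem ν v).1 hv, map_smul])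
    have h1 := LinearMap.finrank_range_add_finrank_ker (N.restrict hinv)
    have h2 : Module.finrank F (LinearMap.range (N.restrict hinv)) ≤
        Module.finrank F (LinearMap.ker (N.restrict hinv)) := Submodule.finrank_mono (by
      rintro _ ⟨v, rfl⟩
      exact LinearMap.mem_ker.2 (Subtype.ext (hN v)))
    have h4 : (E ν).map N = (LinearMap.range (N.restrict hinv)).map (E ν).subtype := by
      refine le_antisymm ?_ ?_
      · rintro _ ⟨v, hv, rfl⟩
        exact ⟨_, ⟨⟨v, hv⟩, rfl⟩, rfl⟩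
      · rintro _ ⟨_, ⟨v, rfl⟩, rfl⟩
        exact ⟨v, v.2, rfl⟩
    rw [h4, Submodule.finrank_map_subtype_eq]
    omega
  have r1' := hsmall 1 (by omega)
  have r2' := hsmall c (by omega)
  have r3' := hsmall (c * c) (by omega)
  rw [LinearMap.range_eq_map, ← htop, Submodule.map_sup, Submodule.map_sup]
  refine (Submodule.finrank_add_le_finrank_add_finrank _ _).trans ?_
  have := Submodule.finrank_add_le_finrank_add_finrank ((E 1).map N) ((E c).map N)
  omega

variable [Fintype F] [CharP F 2] (ω : Root F)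

/-- the elements of the extraspecial group -/
theorem exists_factors {x : GL I9 F} (hx : x ∈ R9 ω) :
    ∃ a ∈ gR ω, ∃ b ∈ gR ω, x = l1 a * r1 b := by
  have hle : R9 ω ≤
      { carrier := {x | ∃ a ∈ gR ω, ∃ b ∈ gR ω, x = l1 a * r1 b}
        one_mem' := ⟨1, one_mem _, 1, one_mem _, by simp⟩
        mul_mem' := by
          rintro _ _ ⟨a, ha, b, hb, rfl⟩ ⟨a', ha', b', hb', rfl⟩
          refine ⟨a * a', mul_mem ha ha', b * b', mul_mem hb hb', ?_⟩
          rw [map_mul, map_mul, mul_assoc, ← mul_assoc (r1 b), ← (l1_commute_r1 a' b).eq]; group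
        inv_mem' := by
          rintro _ ⟨a, ha, b, hb, rfl⟩
          refine ⟨a⁻¹, inv_mem ha, b⁻¹, inv_mem hb, ?_⟩
          rw [_root_.mul_inv_rev, map_inv, map_inv, ((l1_commute_r1 a b).inv_inv).eq] } := by
    rw [R9, sup_le_iff]
    refine ⟨?_, ?_⟩ <;> rintro _ ⟨y, hy, rfl⟩
    · exact ⟨y, hy, 1, one_mem _, by simp⟩
    · exact ⟨1, one_mem _, y, hy, by simp⟩
  exact hle hx

theorem R9_cube {x : GL I9 F} (hx : x ∈ R9 ω) : x ^ 3 = 1 := by
  obtain ⟨a, ha, b, hb, rfl⟩ := exists_factors ω hx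
  rw [(l1_commute_r1 a b).mul_pow, ← map_pow, ← map_pow, gR_cube ω ha, gR_cube ω hb, map_one, map_one, one_mul]

theorem R9_comm {x y : GL I9 F} (hx : x ∈ R9 ω) (hy : y ∈ R9 ω) :
    x * y * x⁻¹ * y⁻¹ ∈ Subgroup.center (GL I9 F) := by
  obtain ⟨a, ha, b, hb, rfl⟩ := exists_factors ω hx
  obtain ⟨a', ha', b', hb', rfl⟩ := exists_factors ω hy
  have h3 : ∀ u ∈ gR ω, ∀ v ∈ gR ω, u * v * u⁻¹ * v⁻¹ ∈ Subgroup.center (GL (Fin 3) F) := fun u hu v hv => by
    obtain ⟨i, j, k, rfl⟩ := exists_nf ω hu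
    obtain ⟨i', j', k', rfl⟩ := exists_nf ω hv
    rw [nf_inv, nf_inv, nf_mul, nf_mul, nf_mul, nf_central]
    omega
  rw [show l1 a * r1 b * (l1 a' * r1 b') * (l1 a * r1 b)⁻¹ * (l1 a' * r1 b')⁻¹ =
      l1 (a * a' * a⁻¹ * a'⁻¹) * r1 (b * b' * b⁻¹ * b'⁻¹) by
    have c : ∀ u v : GL (Fin 3) F, r1 v * l1 u = (l1 u : GL I9 F) * r1 v := fun u v => (l1_commute_r1 u v).eq.symm
    have c' : ∀ (u v : GL (Fin 3) F) (w : GL I9 F), r1 v * (l1 u * w) = l1 u * (r1 v * w) := fun u v w => by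
      rw [← mul_assoc, c, mul_assoc]
    simp only [_root_.mul_inv_rev, ← map_inv, map_mul, mul_assoc, c', c]]
  exact mul_mem (l1_eq_r1_center ω (h3 a ha a' ha') ▸ r1_center ω (h3 a ha a' ha')) (r1_center ω (h3 b hb b' hb'))

/-- a conjugate of the point reflection commutes with no noncentral element -/
theorem mem_center_of_commute_conj {y h : GL I9 F} (hy : y ∈ R9 ω) (hc : Commute (h * t0 * h⁻¹) y) :
    y ∈ Subgroup.center (GL I9 F) := by
  classical
  by_contra hyc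
  obtain ⟨z, hz, hzy⟩ : ∃ z ∈ R9 ω, ¬ Commute z y := by
    by_contra hcon
    push Not at hcon
    exact hyc (mem_center9_of_commute ω (fun a ha => (hcon _ (l1_mem_R9 ω ha)).symm)
      fun a ha => (hcon _ (r1_mem_R9 ω ha)).symm)
  have hcomm := R9_comm ω hz hy
  obtain ⟨k, hk⟩ := cube_center_mem ω hcomm
    (R9_cube ω (mul_mem (mul_mem (mul_mem hz hy) (inv_mem hz)) (inv_mem hy)))
  obtain ⟨c, hcd⟩ : ∃ c, c = ω.μ ^ k := ⟨_, rfl⟩
  have hzy' : (z : Matrix I9 I9 F) * (y : Matrix I9 I9 F) = c • ((y : Matrix I9 I9 F) * (z : Matrix I9 I9 F)) := by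
    have e : z * y = r1 (gZ ω ^ k) * (y * z) := by rw [← hk]; group
    rw [← Units.val_mul, e, Units.val_mul, Units.val_mul, val_r1, val_gZ_pow, Matrix.kronecker_smul,
      Matrix.one_kronecker_one, Matrix.smul_mul, one_mul, hcd]
  have hc3 : c * c * c = 1 := hcd ▸ ω.pow_cube k
  have hc1 : c ≠ 1 := fun e => hzy (Units.ext (by rw [e, one_smul] at hzy'; exact hzy'))
  have hcq : c * c + c + 1 = 0 :=
    (mul_eq_zero.1 (show (c - 1) * (c * c + c + 1) = 0 by linear_combination hc3)).resolve_left (sub_ne_zero.2 hc1)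
  obtain ⟨T, hT⟩ : ∃ T : Matrix I9 I9 F, T = (h : Matrix I9 I9 F) * (Um (F := F) * (Um (F := F))ᵀ) * ((h⁻¹ : GL I9 F) : Matrix I9 I9 F) :=
    ⟨_, rfl⟩
  have hTt : ((h * t0 * h⁻¹ : GL I9 F) : Matrix I9 I9 F) = 1 + T := by
    rw [hT, Units.val_mul, Units.val_mul, val_t0, mul_add, mul_one, add_mul, Units.mul_inv]
  have hy3 : (y : Matrix I9 I9 F) * ((y : Matrix I9 I9 F) * (y : Matrix I9 I9 F)) = 1 := by
    rw [← Units.val_mul, ← Units.val_mul, ← sq, ← pow_succ', R9_cube ω hy, Units.val_one]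
  have hT2 : T * T = 0 := by
    have e : (1 + T) * (1 + T) = (1 : Matrix I9 I9 F) := by
      rw [← hTt, ← Units.val_mul, show h * t0 * h⁻¹ * (h * t0 * h⁻¹) = h * (t0 * t0) * h⁻¹ by group, t0_sq, mul_one,
        mul_inv_cancel, Units.val_one]
    rw [add_mul, one_mul, mul_add, mul_one, add_assoc, ← add_assoc T T, add_self', zero_add] at e
    exact add_eq_left.1 e
  have hTy : T * (y : Matrix I9 I9 F) = (y : Matrix I9 I9 F) * T := by
    have e := congrArg Units.val hc.eq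
    rw [Units.val_mul, Units.val_mul _ (h * t0 * h⁻¹), hTt, add_mul, one_mul, mul_add, mul_one] at e
    exact add_left_cancel e
  have hle := finrank_range_le_three (V := I9 → F) (y := (y : Matrix I9 I9 F).mulVecLin)
    (z := (z : Matrix I9 I9 F).mulVecLin) (N := T.mulVecLin) (by simp)
    (Matrix.mulVec_injective_iff_isUnit.2 z.isUnit) hcq
    (fun v => by simp only [Matrix.mulVecLin_apply, Matrix.mulVec_mulVec, hy3, Matrix.one_mulVec])
    (fun v => by simp only [Matrix.mulVecLin_apply, Matrix.mulVec_mulVec, hzy', Matrix.smul_mulVec])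
    (fun v => by simp only [Matrix.mulVecLin_apply, Matrix.mulVec_mulVec, hT2, Matrix.zero_mulVec])
    (fun v => by simp only [Matrix.mulVecLin_apply, Matrix.mulVec_mulVec, hTy])
  obtain ⟨A, hA⟩ : ∃ A : (Fin 4 → F) →ₗ[F] LinearMap.range T.mulVecLin, ∀ x, (A x : I9 → F) = ((h : Matrix I9 I9 F) * Um (F := F)) *ᵥ x := by
    refine ⟨LinearMap.codRestrict _ ((h : Matrix I9 I9 F) * Um (F := F)).mulVecLin fun x =>
      ⟨((h : Matrix I9 I9 F) * Vm (F := F)) *ᵥ x, ?_⟩, fun x => rfl⟩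
    rw [Matrix.mulVecLin_apply, Matrix.mulVecLin_apply, Matrix.mulVec_mulVec]
    congr 1
    simp only [hT, Matrix.mul_assoc]
    rw [← Matrix.mul_assoc ((h⁻¹ : GL I9 F) : Matrix I9 I9 F) (h : Matrix I9 I9 F), Units.inv_mul, Matrix.one_mul,
      UmT_Vm, Matrix.mul_one]
  have hinj : Function.Injective A := fun x x' e => by
    have e' := congrArg (fun v : LinearMap.range T.mulVecLin =>
      ((Vm (F := F))ᵀ * ((h⁻¹ : GL I9 F) : Matrix I9 I9 F)) *ᵥ (v : I9 → F)) e
    simpa only [hA, Matrix.mulVec_mulVec, Matrix.mul_assoc, ← Matrix.mul_assoc ((h⁻¹ : GL I9 F) : Matrix I9 I9 F),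
      Units.inv_mul, Matrix.one_mul, VmT_Um, Matrix.one_mulVec] using e'
  have := LinearMap.finrank_le_finrank_of_injective hinj
  simp at this hle
  omega

/-- the point reflection acts as inversion -/
theorem t0_conj (a b : GL (Fin 3) F) :
    t0 * (l1 a * r1 b) * (t0 : GL I9 F)⁻¹ = l1 (gT * a * gT⁻¹) * r1 (gT * b * gT⁻¹) := by
  rw [t0_eq, show l1 gT * r1 gT * (l1 a * r1 b) * (l1 gT * r1 gT : GL I9 F)⁻¹ =
    l1 gT * (r1 gT * l1 a) * (r1 b * (r1 gT)⁻¹) * (l1 gT)⁻¹ by group, ← (l1_commute_r1 a gT).eq,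
    show l1 gT * (l1 a * r1 gT) * (r1 b * (r1 gT)⁻¹) * (l1 gT : GL I9 F)⁻¹ =
      l1 gT * l1 a * ((r1 gT * r1 b * (r1 gT)⁻¹) * (l1 gT)⁻¹) by group, ← map_inv r1, ← map_mul r1, ← map_mul r1,
    ← map_inv l1, ← (l1_commute_r1 gT⁻¹ (gT * b * gT⁻¹)).eq]
  simp only [map_mul, mul_assoc]

theorem t0_mem_normalizer : (t0 : GL I9 F) ∈ Subgroup.normalizer (R9 ω : Set (GL I9 F)) := by
  rw [t0_eq]
  refine mul_mem (good_l1T ω).1 (r1_mem_normalizer ω ?_)
  rw [← gPhi_sq ω 0]; exact mul_mem (gPhi_mem_normalizer ω 0) (gPhi_mem_normalizer ω 0)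

/-- a conjugate in the normalizer centralising the point reflection equals it -/
theorem eq_t0 {t h : GL I9 F} (ht : t = h * t0 * h⁻¹) (hN : t ∈ Subgroup.normalizer (R9 ω : Set (GL I9 F)))
    (hc : Commute t t0) (hdet : (t0 : GL I9 F).val.det = 1) : t = t0 := by
  have htt : t * t = 1 := by
    rw [ht, show h * t0 * h⁻¹ * (h * t0 * h⁻¹) = h * (t0 * t0) * h⁻¹ by group, t0_sq, mul_one, mul_inv_cancel]
  have hinvert : ∀ (u g : GL I9 F), u = g * t0 * g⁻¹ → u * u = 1 → u ∈ Subgroup.normalizer (R9 ω : Set (GL I9 F)) →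
      ∀ r ∈ R9 ω, r * (u * r * u⁻¹) ∈ Subgroup.center (GL I9 F) := by
    intro u g hu huu huN r hr
    have hr' : u * r * u⁻¹ ∈ R9 ω := (Subgroup.mem_normalizer_iff.1 huN r).1 hr
    refine mem_center_of_commute_conj ω (h := g) (mul_mem hr hr') ?_
    rw [← hu]
    obtain ⟨r', hr'd⟩ : ∃ r', r' = u * r * u⁻¹ := ⟨_, rfl⟩
    have hui : u⁻¹ = u := inv_eq_of_mul_eq_one_right huu
    have e : u * r' * u⁻¹ = r := by
      rw [hr'd, show u * (u * r * u⁻¹) * u⁻¹ = (u * u) * r * (u * u)⁻¹ by group, huu]; simp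
    rw [← hr'd] at hr' ⊢
    have key : u * (r * r') * u⁻¹ = r' * r := by rw [← conj_mul, ← hr'd, e]
    obtain ⟨d, hd⟩ : ∃ d, d = r' * r * r'⁻¹ * r⁻¹ := ⟨_, rfl⟩
    have hdc : d ∈ Subgroup.center (GL I9 F) := hd ▸ R9_comm ω hr' hr
    have hrr : r' * r = d * (r * r') := by rw [hd]; group
    rw [hrr] at key
    have key2 : d * d = 1 := by
      have e2 : u * (u * (r * r') * u⁻¹) * u⁻¹ = u * (d * (r * r')) * u⁻¹ := by rw [key]
      rw [show u * (u * (r * r') * u⁻¹) * u⁻¹ = (u * u) * (r * r') * (u * u)⁻¹ by group, huu, one_mul,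
        inv_one, mul_one, ← mul_assoc u d, Subgroup.mem_center_iff.1 hdc u, mul_assoc d u, mul_assoc d, key,
        ← mul_assoc] at e2
      exact mul_eq_right.1 e2.symm
    have hd3 : d ^ 3 = 1 := R9_cube ω (hd ▸ mul_mem (mul_mem (mul_mem hr' hr) (inv_mem hr')) (inv_mem hr))
    have hd1 : d = 1 := by rw [pow_succ, sq, key2, one_mul] at hd3; exact hd3
    rw [hd1, one_mul] at key
    exact mul_inv_eq_iff_eq_mul.1 key
  have hprod : ∀ r ∈ R9 ω, (t * t0) * r * (t * t0)⁻¹ * r⁻¹ ∈ Subgroup.center (GL I9 F) := by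
    intro r hr
    have hs : t0 * r * t0⁻¹ ∈ R9 ω := (Subgroup.mem_normalizer_iff.1 (t0_mem_normalizer ω) r).1 hr
    have c1 := hinvert t0 1 (by simp) t0_sq (t0_mem_normalizer ω) r hr
    have c2 := hinvert t h ht htt hN _ hs
    obtain ⟨s, hsd⟩ : ∃ s, s = t0 * r * t0⁻¹ := ⟨_, rfl⟩
    rw [← hsd] at c1 c2
    rw [show t * t0 * r * (t * t0)⁻¹ * r⁻¹ = t * (t0 * r * t0⁻¹) * t⁻¹ * r⁻¹ by group, ← hsd]
    obtain ⟨d, hd⟩ : ∃ d, d = r * s := ⟨_, rfl⟩
    have e : t * s * t⁻¹ * r⁻¹ = (s⁻¹ * ((s * (t * s * t⁻¹)) * d⁻¹) * s) := by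
      obtain ⟨d', hd'⟩ : ∃ d', d' = s * (t * s * t⁻¹) := ⟨_, rfl⟩
      have hdi : d⁻¹ ∈ Subgroup.center (GL I9 F) := inv_mem (hd ▸ c1)
      rw [← hd', mul_assoc s⁻¹, mul_assoc d', ← Subgroup.mem_center_iff.1 hdi s, hd', hd]
      group
    rw [e]
    have hc' : (s * (t * s * t⁻¹)) * d⁻¹ ∈ Subgroup.center (GL I9 F) := mul_mem c2 (inv_mem (hd ▸ c1))
    rw [mul_assoc s⁻¹, ← Subgroup.mem_center_iff.1 hc' s, inv_mul_cancel_left]
    exact hc'
  obtain ⟨a, ha, b, hb, hab⟩ := exists_monomial9 ω (g := t * t0) (fun a ha => hprod _ (l1_mem_R9 ω ha))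
    fun a ha => hprod _ (r1_mem_R9 ω ha)
  obtain ⟨m, hm⟩ : ∃ m, m = (l1 a * r1 b : GL I9 F) := ⟨_, rfl⟩
  rw [← hm] at hab
  obtain ⟨w, hw⟩ : ∃ w, w = m⁻¹ * (t * t0) := ⟨_, rfl⟩
  rw [← hw] at hab
  have hmR : m ∈ R9 ω := hm ▸ mul_mem (l1_mem_R9 ω ha) (r1_mem_R9 ω hb)
  have hw9 : w ^ 9 = 1 := Units.ext (by
    have hd : (w : Matrix I9 I9 F).det = 1 := by
      rw [hw, Units.val_mul, Units.val_mul, Matrix.det_mul, Matrix.det_mul, hdet, mul_one, ht, Units.val_mul,
        Units.val_mul, Matrix.det_mul, Matrix.det_mul, hdet, mul_one, ← Matrix.det_mul (h : Matrix I9 I9 F),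
        Units.mul_inv, Matrix.det_one, mul_one, hm, _root_.mul_inv_rev, ← map_inv, ← map_inv, Units.val_mul,
        Matrix.det_mul, det_r1, det_l1, det_of_mem_gR ω (inv_mem ha), det_of_mem_gR ω (inv_mem hb), one_pow, mul_one]
    rw [scalar_of_mem_center9 ω hab, Matrix.det_smul, Matrix.det_one, mul_one, Fintype.card_prod, Fintype.card_fin] at hd
    rw [Units.val_pow_eq_pow_val, scalar_of_mem_center9 ω hab, smul_pow, one_pow, Units.val_one, show (9 : ℕ) = 3 * 3 from rfl,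
      hd, one_smul])
  have e : t * t0 = m * w := by rw [hw, mul_inv_cancel_left]
  have h2 : (t * t0) ^ 2 = 1 := by
    rw [hc.mul_pow, sq, sq, htt, t0_sq, one_mul]
  have h9 : (t * t0) ^ 9 = 1 := by
    have hcw : Commute m w := Subgroup.mem_center_iff.1 hab m
    rw [e, hcw.mul_pow, hw9, show (9 : ℕ) = 3 * 3 from rfl, pow_mul, R9_cube ω hmR, one_pow, one_mul]
  have h1 : t * t0 = 1 := by
    rw [show (9 : ℕ) = 2 * 4 + 1 from rfl, pow_succ, pow_mul, h2, one_pow, one_mul] at h9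
    exact h9
  exact (eq_inv_of_mul_eq_one_left h1).trans (inv_eq_of_mul_eq_one_right t0_sq)

end CfsgLib.Perm.Trans.ThreeDim.Nine.Two
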