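import Cfsg.Agent.Lib.Perm.Trans.ThreeDim.Nine.Two.Shape
import Cfsg.Agent.Lib.Perm.Trans.ThreeDim.Nine.Two.Image
import Cfsg.Agent.Lib.Perm.Trans.ThreeDim.Nine.Two.Rank

/-!
# Either the point reflection is isolated or there is a transvection
-/

set_option autoImplicit false
set_option linter.all false

namespace CfsgLib.Perm.Trans.ThreeDim.Nine.Two

open scoped Matrix
open Matrix Cfsg Cfsg.Geo CfsgLib.Perm.Trans CfsgLib.Perm.Trans.Unit CfsgLib.Perm.Trans.ThreeDim.Heis

variable {F : Type*} [Field F] [Fintype F] [CharP F 2] (ω : Root F)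

theorem good_t0 : Good ω t0 := by
  rw [t0_eq, ← sw_l1 gT]
  exact good_mul ω (good_l1T ω) (good_mul ω (good_mul ω (good_sw ω) (good_l1T ω)) (good_sw ω))

theorem det_t0 : ((t0 : GL I9 F) : Matrix I9 I9 F).det = 1 := by
  rw [t0_eq, Units.val_mul, Matrix.det_mul, det_l1, det_r1, gT_det, one_pow, mul_one]

/-- shears in the isometry group are hermitian -/
theorem herm_of_mem {X : Matrix (Fin 4) (Fin 4) F} (h : uX X ∈ isoU (f9 (F := F) 2)) : st X = X := by
  have hi : (uX X : GL I9 F)⁻¹ = uX X := inv_eq_of_mul_eq_one_right (by rw [uX_mul, add_self', uX_zero])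
  have e := mem_iso_iff.1 h
  rw [hi, val_uX, st_add, st_one, st_mul, st_mul, st_Um, st_UmT, ← Matrix.mul_assoc] at e
  exact (uX_injective (Units.ext (by rw [val_uX, val_uX]; exact e))).symm

theorem origin_fixed {n : GL I9 F} (hr : ∀ r, (n : Matrix I9 I9 F) r p0 = if r = p0 then 1 else 0)
    (hc : ∀ r, (n : Matrix I9 I9 F) p0 r = if r = p0 then 1 else 0) :
    (n : Matrix I9 I9 F) * em0 (F := F) = em0 ∧ (em0 (F := F))ᵀ * ((n⁻¹ : GL I9 F) : Matrix I9 I9 F) = (em0 (F := F))ᵀ := by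
  refine ⟨?_, ?_⟩
  · ext r j
    rw [Matrix.mul_apply, Finset.sum_eq_single p0] <;> simp +contextual [em0, hr]
  · have e : (em0 (F := F))ᵀ * (n : Matrix I9 I9 F) = (em0 (F := F))ᵀ := by
      ext i r
      rw [Matrix.mul_apply, Finset.sum_eq_single p0] <;> simp +contextual [em0, hc]
    conv_lhs => rw [← e]
    rw [Matrix.mul_assoc, Units.mul_inv, Matrix.mul_one]

/-- either isolated or a transvection -/
theorem isolated_or_mem (hcard : Fintype.card F = 4) {H : Subgroup (GL I9 F)}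
    (hG : H ≤ isoU (f9 (F := F) 2) ⊓ specialLinear I9 F) (hN : ∀ n, Good ω n → n ∈ H) :
    (∀ h ∈ H, Commute (h * t0 * h⁻¹) t0 → h * t0 * h⁻¹ = t0) ∨ uX rk1 ∈ H := by
  classical
  by_cases hbig : uX rk1 ∈ H
  · exact Or.inr hbig
  refine Or.inl fun h hh hc => ?_
  obtain ⟨t, ht⟩ : ∃ t, t = h * t0 * h⁻¹ := ⟨_, rfl⟩
  rw [← ht] at hc ⊢
  have htH : t ∈ H := ht ▸ mul_mem (mul_mem hh (hN _ (good_t0 ω))) (inv_mem hh)
  have htt : t * t = 1 := by
    rw [ht, show h * t0 * h⁻¹ * (h * t0 * h⁻¹) = h * (t0 * t0) * h⁻¹ by group, t0_sq, mul_one, mul_inv_cancel]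
  have hAA : Am t * Am t = 1 := by rw [← Am_mul hc hc, htt, Am_one]
  have hst : st (Am t) = Am t := by rw [← Am_inv (hG htH).1 hc, inv_eq_of_mul_eq_one_right htt]
  have hdetA : (Am t).det = 1 := by
    have e : (Am t).det * (Am t).det = 1 := by rw [← Matrix.det_mul, hAA, Matrix.det_one]
    have e2 : ((Am t).det + 1) * ((Am t).det + 1) = 0 := by
      linear_combination e + ((Am t).det + 1) * (two_zero : (2 : F) = 0)
    exact (CharTwo.add_eq_zero.1 (mul_self_eq_zero.1 e2))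
  obtain ⟨n, hn, hnA⟩ := exists_image ω hcard (A := Am t) (by rw [hst, hAA]) hdetA
  obtain ⟨k, hk⟩ : ∃ k, k = t * n⁻¹ := ⟨_, rfl⟩
  have hkH : k ∈ H := hk ▸ mul_mem htH (inv_mem (hN n hn))
  have hkc : Commute k t0 := hk ▸ hc.mul_left hn.2.2.inv_left
  have hkA : Am k = 1 := by
    rw [hk, Am_mul hc hn.2.2.inv_left, Am_inv hn.2.1.1 hn.2.2, hnA, hst, hAA]
  obtain ⟨w, X, hkX⟩ := kernel_shape (hG hkH).1 (mem_SL.1 (hG hkH).2) hkc hkA
  have hscal : ∀ Y, uX Y ∈ H → Y = Y 0 0 • 1 := fun Y hY => by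
    by_contra hns
    exact hbig (rank_one_mem ω hcard (P := fun Z => uX Z ∈ H)
      (fun A B hA hB => by rw [← uX_mul]; exact mul_mem hA hB)
      (fun A hA hd Z hZ => by
        obtain ⟨m, hm, rfl⟩ := exists_image ω hcard hA hd
        rw [← uX_conj hm.2.1.1 hm.2.2]
        exact mul_mem (mul_mem (hN m hm) hZ) (inv_mem (hN m hm)))
      (fun A hA => herm_of_mem (hG hA).1) hY hns)
  have hw : w = 0 := by
    have hstep : ∀ (m : GL I9 F) (d : Fin 4 → F) (b : Fin 4), Good ω m → Am m = Matrix.diagonal d →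
        (∀ r, (m : Matrix I9 I9 F) r p0 = if r = p0 then 1 else 0) →
        (∀ r, (m : Matrix I9 I9 F) p0 r = if r = p0 then 1 else 0) → d b = 1 →
        ∀ a, d a = ω.μ → w a 0 = 0 := by
      intro m d b hm hmd hr hcl hb a ha
      obtain ⟨h1, h2⟩ := origin_fixed hr hcl
      have hk' := kernel_conj hkX hm.2.1.1 hm.2.2 h1 h2
      have hmem : uX (w * st (Am m * w) + Am m * w * st w) ∈ H := by
        rw [← kernel_comm hkX hk']
        exact mul_mem (mul_mem (mul_mem hkH (mul_mem (mul_mem (hN m hm) hkH) (inv_mem (hN m hm)))) (inv_mem hkH))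
          (inv_mem (mul_mem (mul_mem (hN m hm) hkH) (inv_mem (hN m hm))))
      have hY : ∀ i, (w * st (Am m * w) + Am m * w * st w) i i = w i 0 * w i 0 ^ 2 * (d i + d i ^ 2) := fun i => by
        rw [hmd, Matrix.add_apply, Matrix.mul_apply, Matrix.mul_apply, Fin.sum_univ_one, Fin.sum_univ_one, st_apply,
          st_apply, Matrix.diagonal_mul]
        ring
      have hs := hscal _ hmem
      have ea := congrFun (congrFun hs a) a
      have eb := congrFun (congrFun hs b) b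
      rw [hY, Matrix.smul_apply, Matrix.one_apply_eq, smul_eq_mul, mul_one] at ea eb
      rw [← eb, ha, hb] at ea
      have e3 : w a 0 * w a 0 ^ 2 = 0 := by
        linear_combination ea + (w a 0 * w a 0 ^ 2) * (-ω.eq) + (w a 0 * w a 0 ^ 2 + w b 0 * w b 0 ^ 2) * (two_zero : (2 : F) = 0)
      rcases mul_eq_zero.1 e3 with e | e
      · exact e
      · exact pow_eq_zero_iff two_ne_zero |>.1 e
    have hl := hstep _ _ 1 (good_l1W ω) (Am_l1W ω)
      (fun ⟨x, i⟩ => by
        show (l1 (wd ω) : GL I9 F).val (x, i) (0, 0) = _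
        rw [l1_apply, val_wd]
        fin_cases x <;> fin_cases i <;> simp [p0, Prod.ext_iff])
      (fun ⟨x, i⟩ => by
        show (l1 (wd ω) : GL I9 F).val (0, 0) (x, i) = _
        rw [l1_apply, val_wd]
        fin_cases x <;> fin_cases i <;> simp [p0, Prod.ext_iff]) rfl
    have hr := hstep _ _ 0 (good_r1W ω) (Am_r1W ω)
      (fun ⟨x, i⟩ => by
        show (r1 (wd ω) : GL I9 F).val (x, i) (0, 0) = _
        rw [r1_apply, val_wd]
        fin_cases x <;> fin_cases i <;> simp [p0, Prod.ext_iff])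
      (fun ⟨x, i⟩ => by
        show (r1 (wd ω) : GL I9 F).val (0, 0) (x, i) = _
        rw [r1_apply, val_wd]
        fin_cases x <;> fin_cases i <;> simp [p0, Prod.ext_iff]) rfl
    ext a j
    rw [Subsingleton.elim j 0, Matrix.zero_apply]
    fin_cases a
    · exact hl 0 rfl
    · exact hr 1 rfl
    · exact hl 2 rfl
    · exact hl 3 rfl
  have hkuX : k = uX X := Units.ext (by rw [hkX, hw, kM_zero])
  have hXs := hscal X (hkuX ▸ hkH)
  have hx : X 0 0 ^ 2 = X 0 0 := congrFun (congrFun (herm_of_mem (hkuX ▸ (hG hkH).1)) 0) 0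
  have hkN : k ∈ Subgroup.normalizer (R9 ω : Set (GL I9 F)) := by
    rcases fix_cases hcard hx with e | e
    · rw [hkuX, hXs, e, zero_smul, uX_zero]; exact one_mem _
    · rw [hkuX, hXs, e, one_smul]; exact (good_t0 ω).1
  refine eq_t0 ω (h := h) ht ?_ hc det_t0
  rw [← inv_mul_cancel_right t n, ← hk]
  exact mul_mem hkN hn.1

end CfsgLib.Perm.Trans.ThreeDim.Nine.Two
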