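import Cfsg.Agent.Lib.Perm.Trans.ThreeDim.Nine.Two.Basic

/-!
# Elements of the frame normalizer fixing the point reflection
-/

set_option autoImplicit false
set_option linter.all false

namespace CfsgLib.Perm.Trans.ThreeDim.Nine.Two

open scoped Matrix
open Matrix Cfsg Cfsg.Geo CfsgLib.Perm.Trans CfsgLib.Perm.Trans.Unit CfsgLib.Perm.Trans.ThreeDim.Heis

variable {F : Type*} [Field F] [Fintype F] [CharP F 2] (ω : Root F)

/-- `diag(1, μ, μ)` -/
def wd : GL (Fin 3) F := dg ![1, Units.mk0 ω.μ ω.ne_zero, Units.mk0 ω.μ ω.ne_zero]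

theorem val_wd : (wd ω : Matrix (Fin 3) (Fin 3) F) = Matrix.diagonal ![1, ω.μ, ω.μ] := by
  rw [wd, val_dg]; congr 1; funext i; fin_cases i <;> simp

theorem det_wd_cube : (wd ω : Matrix (Fin 3) (Fin 3) F).det ^ 3 = 1 := by
  rw [val_wd, Matrix.det_diagonal, Fin.prod_univ_three]
  simp
  linear_combination (ω.μ * ω.μ * ω.μ + 1) * ω.cube

theorem wd_mem_normalizer : wd ω ∈ Subgroup.normalizer (gR ω : Set (GL (Fin 3) F)) := by
  refine CfsgLib.Perm.Elusive.mem_normalizer_of_generators (a := gD ω) (b := gS) rfl ?_ ?_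
  · rw [show wd ω * gD ω * (wd ω)⁻¹ = gD ω by
      rw [mul_inv_eq_iff_eq_mul]
      refine Units.ext ?_
      rw [Units.val_mul, Units.val_mul, val_wd, val_gD, dm, Matrix.diagonal_mul_diagonal, Matrix.diagonal_mul_diagonal]
      simp only [mul_comm]]
    exact gD_mem ω
  · rw [show wd ω * gS * (wd ω)⁻¹ = gZ ω * gS * (gD ω * gD ω) by
      rw [mul_inv_eq_iff_eq_mul]
      refine Units.ext ?_
      have hg := val_gZ_pow ω 1
      rw [pow_one, pow_one] at hg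
      simp only [Units.val_mul, val_wd, val_gS, val_gD, hg, dm]
      ext i j
      fin_cases i <;> fin_cases j <;>
        simp [sm, Matrix.mul_apply, Fin.sum_univ_three, Matrix.diagonal_apply, Matrix.vecMul_diagonal] <;> grind [ω.cube]]
    exact mul_mem (mul_mem (gZ_mem ω) (gS_mem ω)) (mul_mem (gD_mem ω) (gD_mem ω))

/-- the shear -/
def shr : GL I9 F := bd fun x : Fin 3 => gS ^ (x : ℕ)

theorem shr_mem_normalizer : (shr : GL I9 F) ∈ Subgroup.normalizer (R9 ω : Set (GL I9 F)) := by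
  obtain ⟨e, he⟩ : ∃ e : Fin 3 → GL (Fin 3) F, e = fun x : Fin 3 => gS ^ (x : ℕ) := ⟨_, rfl⟩
  rw [shr, ← he]
  refine mem_normalizer_R9 ω ?_ ?_ ?_ ?_
  · rw [show bd e * l1 (gD ω) * (bd e)⁻¹ = l1 (gD ω) by
      rw [mul_inv_eq_iff_eq_mul, l1_gD_eq, ← map_mul, ← map_mul]
      congr 1; funext x; exact zcomm ω _ _]
    exact l1_mem_R9 ω (gD_mem ω)
  · rw [show bd e * l1 gS * (bd e)⁻¹ = r1 gS * l1 gS by
      rw [mul_inv_eq_iff_eq_mul, mul_assoc, l1_gS_bd, ← mul_assoc, r1_eq, ← map_mul]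
      congr 2; funext x
      rw [he, Pi.mul_apply]
      fin_cases x
      · exact (show (1 : GL (Fin 3) F) = gS * gS ^ 2 by rw [← pow_succ']; exact (gS_pow_three).symm)
      · exact (show (gS : GL (Fin 3) F) ^ 1 = gS * gS ^ 0 by rw [pow_one, pow_zero, mul_one])
      · exact (show (gS : GL (Fin 3) F) ^ 2 = gS * gS ^ 1 by rw [pow_one, sq])]
    exact mul_mem (r1_mem_R9 ω (gS_mem ω)) (l1_mem_R9 ω (gS_mem ω))
  · rw [show bd e * r1 (gD ω) * (bd e)⁻¹ = (l1 (gD ω))⁻¹ * r1 (gD ω) by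
      rw [mul_inv_eq_iff_eq_mul, l1_gD_eq, r1_eq, ← map_inv, ← map_mul, ← map_mul, ← map_mul]
      congr 1; funext x
      rw [he]
      show gS ^ (x : ℕ) * gD ω = (gZ ω ^ (x : ℕ))⁻¹ * gD ω * gS ^ (x : ℕ)
      have := pow_swap ω 1 (x : ℕ)
      rw [pow_one, one_mul] at this
      rw [mul_assoc, this, inv_mul_cancel_left]]
    exact mul_mem (inv_mem (l1_mem_R9 ω (gD_mem ω))) (r1_mem_R9 ω (gD_mem ω))
  · rw [show bd e * r1 gS * (bd e)⁻¹ = r1 gS by
      rw [mul_inv_eq_iff_eq_mul, r1_eq, ← map_mul, ← map_mul]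
      congr 1; funext x; rw [he]; exact (Commute.pow_self gS _).eq]
    exact r1_mem_R9 ω (gS_mem ω)

theorem Am_apply (n : GL I9 F) (a b : Fin 4) :
    Am n a b = (n : Matrix I9 I9 F) (pt a) (pt b) + (n : Matrix I9 I9 F) (-pt a) (pt b) := by
  rw [Am, UmT_mul, Matrix.mul_apply, Finset.sum_eq_single (pt b)] <;> simp +contextual [Vm]

theorem commute_t0 {n : GL I9 F} (h : ∀ r s, (n : Matrix I9 I9 F) (-r) (-s) = (n : Matrix I9 I9 F) r s) :
    Commute n t0 := Units.ext (Matrix.ext fun r s => by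
  rw [Units.val_mul, Units.val_mul, Matrix.mul_apply, Matrix.mul_apply, Finset.sum_eq_single (-s),
    Finset.sum_eq_single (-r)]
  · rw [t0_apply, t0_apply, if_pos rfl, if_pos (neg_neg r).symm, mul_one, one_mul]
    have := h r (-s)
    rwa [neg_neg, eq_comm] at this
  · intro l _ hl
    rw [t0_apply, if_neg (fun e => hl (by rw [e, neg_neg])), zero_mul]
  · simp
  · intro l _ hl
    rw [t0_apply, if_neg hl, mul_zero]
  · simp)

theorem mem_iso_diag {d : Fin 3 → Fin 3 → F} {g : GL I9 F} (hg : ∀ x y i j, (g : Matrix I9 I9 F) (x, i) (y, j) = if x = y ∧ i = j then d x i else 0)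
    (hd : ∀ x i, d x i * d x i ^ 2 = 1) : g ∈ isoU (f9 (F := F) 2) := mem_isoU.2 fun u v => by
  have h : ∀ (w : I9 → F) (k : I9), (g : Matrix I9 I9 F).mulVec w k = d k.1 k.2 * w k := by
    rintro w ⟨x, i⟩
    rw [Matrix.mulVec, dotProduct, Finset.sum_eq_single (x, i)]
    · simp [hg]
    · rintro ⟨y, j⟩ _ hne
      have : ¬(x = y ∧ i = j) := fun e => hne (by rw [e.1, e.2])
      simp [hg, this]
    · simp
  simp only [f9, h]
  refine Finset.sum_congr rfl fun k _ => ?_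
  linear_combination (u k * v k ^ 2) * hd k.1 k.2

/-- membership in the fixed part of the frame normalizer -/
def Good (n : GL I9 F) : Prop :=
  n ∈ Subgroup.normalizer (R9 ω : Set (GL I9 F)) ∧ n ∈ isoU (f9 (F := F) 2) ⊓ specialLinear I9 F ∧ Commute n t0

theorem mu_mul_sq : ω.μ * ω.μ ^ 2 = 1 := by rw [← pow_succ', pow_succ, sq]; exact ω.cube

theorem good_sw : Good ω sw := by
  refine ⟨sw_mem_normalizer ω, (su_hgen (p := 2) ω rfl (by simp [CharTwo.neg_eq])).2.2.1, commute_t0 fun r s => ?_⟩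
  obtain ⟨x, i⟩ := r
  obtain ⟨y, j⟩ := s
  show swM (-x, -i) (-y, -j) = swM (x, i) (y, j)
  simp [swM_apply]

theorem good_l1T : Good ω (l1 gT) := by
  obtain ⟨hR, hP, hsw, hc⟩ := su_hgen (p := 2) ω rfl (by simp [CharTwo.neg_eq])
  have hN : gT ∈ Subgroup.normalizer (gR ω : Set (GL (Fin 3) F)) := by
    rw [← gPhi_sq ω 0]; exact mul_mem (gPhi_mem_normalizer ω 0) (gPhi_mem_normalizer ω 0)
  refine ⟨?_, ?_, commute_t0 fun r s => ?_⟩
  · rw [← sw_r1]; exact mul_mem (mul_mem (sw_mem_normalizer ω) (r1_mem_normalizer ω hN)) (sw_mem_normalizer ω)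
  · rw [← sw_r1, ← gPhi_sq ω 0, map_mul]
    exact mul_mem (mul_mem hsw (mul_mem (hP 0) (hP 0))) hsw
  · obtain ⟨x, i⟩ := r
    obtain ⟨y, j⟩ := s
    show (l1 gT : GL I9 F).val (-x, -i) (-y, -j) = _
    rw [l1_apply, l1_apply, val_gT]
    fin_cases x <;> fin_cases y <;> simp [tm, show (-1 : Fin 3) = 2 from rfl, show (-2 : Fin 3) = 1 from rfl, neg_inj]

theorem good_shr : Good ω shr := by
  refine ⟨shr_mem_normalizer ω, ⟨(bd_mem_iso9 two_ne_zero).2 fun x => (GU 3 F 2).pow_mem gS_mem_GU _, mem_SL.2 ?_⟩,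
    commute_t0 fun r s => ?_⟩
  · rw [shr, det_bd]; exact Finset.prod_eq_one fun x _ => det_of_mem_gR ω (pow_mem (gS_mem ω) _)
  · obtain ⟨x, i⟩ := r
    obtain ⟨y, j⟩ := s
    show (shr : GL I9 F).val (-x, -i) (-y, -j) = _
    rw [shr, bd_apply, bd_apply]
    fin_cases x <;> fin_cases y <;> simp [show (-1 : Fin 3) = 2 from rfl, show (-2 : Fin 3) = 1 from rfl,
      Units.val_pow_eq_pow_val, val_gS] <;> fin_cases i <;> fin_cases j <;>
      simp [sm, pow_two, Matrix.mul_apply, Fin.sum_univ_three, show (-1 : Fin 3) = 2 from rfl,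
        show (-2 : Fin 3) = 1 from rfl]

theorem good_gauss : Good ω (bd fun x : Fin 3 => gD ω ^ (x : ℕ)) := by
  refine ⟨gauss_mem_normalizer ω, (su_hgen (p := 2) ω rfl (by simp [CharTwo.neg_eq])).2.2.2, commute_t0 fun r s => ?_⟩
  obtain ⟨x, i⟩ := r
  obtain ⟨y, j⟩ := s
  show (bd fun x : Fin 3 => gD ω ^ (x : ℕ) : GL I9 F).val (-x, -i) (-y, -j) = _
  rw [bd_apply, bd_apply]
  fin_cases x <;> fin_cases y <;> simp [show (-1 : Fin 3) = 2 from rfl, show (-2 : Fin 3) = 1 from rfl,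
    Units.val_pow_eq_pow_val, val_gD] <;> fin_cases i <;> fin_cases j <;>
    simp [dm, pow_two, Matrix.mul_apply, Fin.sum_univ_three, show (-1 : Fin 3) = 2 from rfl,
      show (-2 : Fin 3) = 1 from rfl] <;> grind [ω.cube]

theorem good_r1W : Good ω (r1 (wd ω)) := by
  refine ⟨r1_mem_normalizer ω (wd_mem_normalizer ω), ⟨mem_iso_diag (d := fun _ i => ![1, ω.μ, ω.μ] i) (fun x y i j => ?_)
    (fun x i => ?_), mem_SL.2 (by rw [det_r1, det_wd_cube])⟩, commute_t0 fun r s => ?_⟩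
  · rw [r1_apply, val_wd, Matrix.diagonal_apply]
    by_cases h1 : x = y <;> by_cases h2 : i = j <;> simp [h1, h2]
  · fin_cases i <;> first | exact mu_mul_sq ω | simp
  · obtain ⟨x, i⟩ := r
    obtain ⟨y, j⟩ := s
    show (r1 (wd ω) : GL I9 F).val (-x, -i) (-y, -j) = _
    rw [r1_apply, r1_apply, val_wd]
    simp only [neg_inj]
    fin_cases i <;> fin_cases j <;> simp [show (-1 : Fin 3) = 2 from rfl, show (-2 : Fin 3) = 1 from rfl]

theorem good_l1W : Good ω (l1 (wd ω)) := by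
  obtain ⟨hn, ⟨hi, hd⟩, -⟩ := good_r1W ω
  obtain ⟨sn, ⟨si, sd⟩, sc⟩ := good_sw ω
  refine ⟨?_, ⟨?_, ?_⟩, commute_t0 fun r s => ?_⟩
  · rw [← sw_r1]; exact mul_mem (mul_mem sn hn) sn
  · rw [← sw_r1]; exact mul_mem (mul_mem si hi) si
  · rw [← sw_r1]; exact mul_mem (mul_mem sd hd) sd
  · obtain ⟨x, i⟩ := r
    obtain ⟨y, j⟩ := s
    show (l1 (wd ω) : GL I9 F).val (-x, -i) (-y, -j) = _
    rw [l1_apply, l1_apply, val_wd]
    simp only [neg_inj]
    fin_cases x <;> fin_cases y <;> simp [show (-1 : Fin 3) = 2 from rfl, show (-2 : Fin 3) = 1 from rfl]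

theorem good_r1Phi : Good ω (r1 (gPhi ω 0)) := by
  refine ⟨r1_mem_normalizer ω (gPhi_mem_normalizer ω 0),
    (su_hgen (p := 2) ω rfl (by simp [CharTwo.neg_eq])).2.1 0, commute_t0 fun r s => ?_⟩
  obtain ⟨x, i⟩ := r
  obtain ⟨y, j⟩ := s
  show (r1 (gPhi ω 0) : GL I9 F).val (-x, -i) (-y, -j) = _
  rw [r1_apply, r1_apply, val_gPhi, pow_zero]
  simp only [neg_inj]
  fin_cases i <;> fin_cases j <;> simp [phim, show (-1 : Fin 3) = 2 from rfl, show (-2 : Fin 3) = 1 from rfl]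

theorem good_mul {n m : GL I9 F} (hn : Good ω n) (hm : Good ω m) : Good ω (n * m) :=
  ⟨mul_mem hn.1 hm.1, mul_mem hn.2.1 hm.2.1, hn.2.2.mul_left hm.2.2⟩

theorem good_one : Good ω (1 : GL I9 F) := ⟨one_mem _, one_mem _, Commute.one_left _⟩

theorem good_inv {n : GL I9 F} (hn : Good ω n) : Good ω n⁻¹ := ⟨inv_mem hn.1, inv_mem hn.2.1, hn.2.2.inv_left⟩

end CfsgLib.Perm.Trans.ThreeDim.Nine.Two
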