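import Cfsg.Agent.Lib.Perm.Trans.ThreeDim.Nine.Two.Basic

/-!
# Elements centralising the point reflection and trivial on its image
-/

set_option autoImplicit false
set_option linter.all false

namespace CfsgLib.Perm.Trans.ThreeDim.Nine.Two

open scoped Matrix
open Matrix Cfsg Cfsg.Geo CfsgLib.Perm.Trans CfsgLib.Perm.Trans.Unit CfsgLib.Perm.Trans.ThreeDim.Heis

variable {F : Type*} [Field F] [Fintype F] [CharP F 2]

local notation "UM" => (Um (F := F))
local notation "VM" => (Vm (F := F))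
local notation "E0" => (em0 (F := F))

theorem UmT_mul_inv {n : GL I9 F} (hn : n ∈ isoU (f9 (F := F) 2)) (hc : Commute n t0) :
    UMᵀ * ((n⁻¹ : GL I9 F) : Matrix I9 I9 F) = st (Am n) * UMᵀ := by
  have := congrArg st (mul_Um hc)
  rwa [st_mul, st_mul, st_Um, ← mem_iso_iff.1 hn] at this

/-- the general element of the kernel -/
def kM (w : Matrix (Fin 4) (Fin 1) F) (X : Matrix (Fin 4) (Fin 4) F) : Matrix I9 I9 F :=
  E0 * st w * UMᵀ + UM * w * E0ᵀ + UM * X * UMᵀ

theorem UmT_kM (w : Matrix (Fin 4) (Fin 1) F) (X : Matrix (Fin 4) (Fin 4) F) : UMᵀ * kM w X = 0 := by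
  simp only [kM, Matrix.mul_add, ← Matrix.mul_assoc, UmT_em0, UmT_Um, Matrix.zero_mul, add_zero]

theorem kM_mul (w w' : Matrix (Fin 4) (Fin 1) F) (X X' : Matrix (Fin 4) (Fin 4) F) :
    kM w X * kM w' X' = UM * (w * st w') * UMᵀ := by
  show (E0 * st w * UMᵀ + UM * w * E0ᵀ + UM * X * UMᵀ) * kM w' X' = _
  rw [add_mul, add_mul, Matrix.mul_assoc (E0 * st w), UmT_kM, Matrix.mul_zero, zero_add,
    Matrix.mul_assoc (UM * X), UmT_kM, Matrix.mul_zero, add_zero, kM]
  simp only [Matrix.mul_add, Matrix.mul_assoc]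
  simp only [← Matrix.mul_assoc E0ᵀ, em0T_em0, em0T_Um, Matrix.one_mul, Matrix.zero_mul, Matrix.mul_zero, add_zero]

/-- the shape of the kernel -/
theorem kernel_shape {k : GL I9 F} (hk : k ∈ isoU (f9 (F := F) 2)) (hdet : (k : Matrix I9 I9 F).det = 1)
    (hc : Commute k t0) (hA : Am k = 1) :
    ∃ (w : Matrix (Fin 4) (Fin 1) F) (X : Matrix (Fin 4) (Fin 4) F), (k : Matrix I9 I9 F) = 1 + kM w X := by
  obtain ⟨M, hM⟩ : ∃ M, M = (k : Matrix I9 I9 F) + 1 := ⟨_, rfl⟩
  have hk' : (k : Matrix I9 I9 F) = 1 + M := by rw [hM, add_comm _ (1 : Matrix I9 I9 F), ← add_assoc, add_self', zero_add]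
  have hMU : M * UM = 0 := by rw [hM, Matrix.add_mul, mul_Um hc, hA, Matrix.mul_one, Matrix.one_mul, add_self']
  have hUM : UMᵀ * M = 0 := by
    have h := UmT_mul_inv (inv_mem hk) hc.inv_left
    rw [inv_inv, Am_inv hk hc, hA, st_one, st_one, Matrix.one_mul] at h
    rw [hM, Matrix.mul_add, h, Matrix.mul_one, add_self']
  obtain ⟨C1, hC1⟩ : ∃ C1, C1 = E0ᵀ * M * E0 := ⟨_, rfl⟩
  obtain ⟨l, hl⟩ : ∃ l, l = E0ᵀ * M * VM := ⟨_, rfl⟩
  obtain ⟨w, hw⟩ : ∃ w, w = VMᵀ * M * E0 := ⟨_, rfl⟩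
  obtain ⟨X, hX⟩ : ∃ X, X = VMᵀ * M * VM := ⟨_, rfl⟩
  have hdec : M = E0 * C1 * E0ᵀ + E0 * l * UMᵀ + UM * w * E0ᵀ + UM * X * UMᵀ := by
    have l1' : M = (E0 * E0ᵀ + UM * VMᵀ) * M := by
      conv_lhs => rw [← Matrix.one_mul M, one_eq]
      simp only [add_mul, Matrix.add_mul, Matrix.mul_assoc, hUM, Matrix.mul_zero, add_zero]
    have r1' : M = M * (E0 * E0ᵀ + VM * UMᵀ) := by
      conv_lhs => rw [← Matrix.mul_one M, one_eq]
      simp only [mul_add, Matrix.mul_add, ← Matrix.mul_assoc, hMU, Matrix.zero_mul, add_zero]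
    calc M = (E0 * E0ᵀ + UM * VMᵀ) * M * (E0 * E0ᵀ + VM * UMᵀ) := by rw [← l1', ← r1']
      _ = _ := by
        rw [hC1, hl, hw, hX]
        simp only [add_mul, Matrix.add_mul, mul_add, Matrix.mul_assoc]
        abel
  have hC : C1 = 0 := by
    have hf : (k : Matrix I9 I9 F) = (1 + E0 * (C1 * E0ᵀ + l * UMᵀ)) * (1 + UM * (w * E0ᵀ + X * UMᵀ)) := by
      have hz : E0 * (C1 * E0ᵀ + l * UMᵀ) * (UM * (w * E0ᵀ + X * UMᵀ)) = 0 := by
        simp only [Matrix.mul_assoc, add_mul, Matrix.add_mul, Matrix.mul_add, ← Matrix.mul_assoc E0ᵀ UM, ← Matrix.mul_assoc UMᵀ UM, em0T_Um, UmT_Um,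
          Matrix.zero_mul, Matrix.mul_zero, add_zero]
      rw [add_mul, one_mul, mul_add, mul_one, hz, add_zero, hk']
      conv_lhs => rw [hdec]
      simp only [Matrix.mul_add, ← Matrix.mul_assoc]
      abel
    rw [hf, Matrix.det_mul, Matrix.det_one_add_mul_comm E0, Matrix.det_one_add_mul_comm UM] at hdet
    simp only [add_mul, Matrix.add_mul, Matrix.mul_assoc, em0T_em0, UmT_em0, em0T_Um, UmT_Um, Matrix.mul_one, Matrix.mul_zero,
      add_zero, Matrix.det_one, mul_one] at hdet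
    rw [Matrix.det_fin_one, Matrix.add_apply, Matrix.one_apply_eq] at hdet
    ext i j
    rw [Subsingleton.elim i 0, Subsingleton.elim j 0, Matrix.zero_apply]
    exact add_left_cancel (hdet.trans (add_zero _).symm)
  rw [hC, Matrix.mul_zero, Matrix.zero_mul, zero_add] at hdec
  have hlw : l = st w := by
    have h0 : st M + M + st M * M = 0 := by
      have h1 : st (k : Matrix I9 I9 F) * (k : Matrix I9 I9 F) = 1 := by rw [← mem_iso_iff.1 hk, Units.inv_mul]
      rw [hk', st_add, st_one, add_mul, one_mul, mul_add, mul_one] at h1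
      rw [add_assoc] at h1
      have := add_eq_left.1 h1
      rw [← this]; abel
    have h2 := congrArg (fun A => E0ᵀ * A * VM) h0
    simp only [Matrix.mul_add, Matrix.add_mul, Matrix.mul_zero, Matrix.zero_mul] at h2
    have e1 : E0ᵀ * st M * VM = st w := by
      have hst : st (VMᵀ : Matrix (Fin 4) I9 F) = VM := by
        rw [st_transpose, Matrix.transpose_transpose]
        intro i j; rw [Matrix.transpose_apply]; unfold Vm; rw [Matrix.of_apply]; split_ifs <;> simp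
      rw [hw, st_mul, st_mul, st_em0, hst, Matrix.mul_assoc]
    have e2 : E0ᵀ * (st M * M) * VM = 0 := by
      have : E0ᵀ * st M = st (UM * w) := by
        rw [← st_em0, ← st_mul]
        congr 1
        conv_lhs => rw [hdec]
        simp only [Matrix.add_mul, Matrix.mul_assoc, UmT_em0, em0T_em0, Matrix.mul_zero, Matrix.mul_one, add_zero, zero_add]
      rw [← Matrix.mul_assoc, this, st_mul, st_Um, Matrix.mul_assoc (st w), hUM, Matrix.mul_zero, Matrix.zero_mul]
    rw [e1, e2, add_zero, ← hl] at h2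
    calc l = st w + (st w + l) := by rw [← add_assoc, add_self', zero_add]
      _ = st w := by rw [h2, add_zero]
  exact ⟨w, X, by rw [hk', kM, ← hlw, ← hdec]⟩

theorem kM_zero (X : Matrix (Fin 4) (Fin 4) F) : 1 + kM 0 X = (uX X : Matrix I9 I9 F) := by
  simp [kM, val_uX, st_zero]

/-- commutators in the kernel -/
theorem kernel_comm {k k' : GL I9 F} {w w' : Matrix (Fin 4) (Fin 1) F} {X X' : Matrix (Fin 4) (Fin 4) F}
    (h : (k : Matrix I9 I9 F) = 1 + kM w X) (h' : (k' : Matrix I9 I9 F) = 1 + kM w' X') :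
    k * k' * k⁻¹ * k'⁻¹ = uX (w * st w' + w' * st w) := by
  rw [mul_inv_eq_iff_eq_mul, mul_inv_eq_iff_eq_mul, mul_assoc]
  refine Units.ext ?_
  rw [Units.val_mul, Units.val_mul, Units.val_mul, h, h', val_uX, add_mul (1 : Matrix I9 I9 F) (UM * _ * UMᵀ), one_mul]
  have hU : UMᵀ * ((1 + kM w' X') * (1 + kM w X)) = UMᵀ := by
    rw [← Matrix.mul_assoc, Matrix.mul_add UMᵀ 1, Matrix.mul_one, UmT_kM, add_zero, Matrix.mul_add, Matrix.mul_one,
      UmT_kM, add_zero]
  rw [Matrix.mul_assoc (UM * _), hU]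
  simp only [add_mul, Matrix.add_mul, mul_add, one_mul, mul_one, kM_mul, Matrix.mul_add, Matrix.add_mul]
  have := add_self' (UM * (w' * st w) * UMᵀ)
  calc _ = 1 + kM w' X' + kM w X + UM * (w * st w') * UMᵀ +
        (UM * (w' * st w) * UMᵀ + UM * (w' * st w) * UMᵀ) := by rw [this, add_zero]; abel
    _ = _ := by abel

/-- conjugates in the kernel -/
theorem kernel_conj {k n : GL I9 F} {w : Matrix (Fin 4) (Fin 1) F} {X : Matrix (Fin 4) (Fin 4) F}
    (h : (k : Matrix I9 I9 F) = 1 + kM w X) (hn : n ∈ isoU (f9 (F := F) 2)) (hc : Commute n t0)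
    (he : (n : Matrix I9 I9 F) * E0 = E0) (he' : E0ᵀ * ((n⁻¹ : GL I9 F) : Matrix I9 I9 F) = E0ᵀ) :
    ((n * k * n⁻¹ : GL I9 F) : Matrix I9 I9 F) = 1 + kM (Am n * w) (Am n * X * st (Am n)) := by
  rw [Units.val_mul, Units.val_mul, h, mul_add, mul_one, add_mul, Units.mul_inv]
  congr 1
  simp only [kM, st_mul, mul_add, add_mul, Matrix.mul_add, Matrix.add_mul, ← Matrix.mul_assoc, he, mul_Um hc]
  simp only [Matrix.mul_assoc, he', UmT_mul_inv hn hc]

end CfsgLib.Perm.Trans.ThreeDim.Nine.Two
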